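import Cfsg.Agent.Lib.BlockReg.Regular
import Cfsg.Agent.Lib.BlockRank.RankOne

/-!
A local combination of characters vanishing on the singular elements is divisible at a regular
element by the order of its centralizer.
-/

set_option autoImplicit false

open Cfsg
open scoped ComplexConjugate

namespace CfsgLib.PerfIso

open CfsgLib.BlockReg

universe u

variable {G : Type u} [Group G] [Finite G] {p : ℕ} [Fact p.Prime] {M : Ideal Cfsg.AlgInt}

/-- A combination of characters with local integral coefficients that vanishes on the singular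
elements is divisible at a regular element by the order of its centralizer. -/
theorem memRing_div_centralizer (hM : Cfsg.IsPModular p M) {b : Cfsg.IrrCharacter G → ℂ}
    (hb : ∀ χ, Cfsg.MemLocalRing M (b χ)) (S : Finset (Cfsg.IrrCharacter G)) {f : G → ℂ}
    (hf : ∀ g, f g = ∑ χ ∈ S, b χ * (χ : G → ℂ) g)
    (hvan : ∀ g, ¬ Cfsg.IsPRegular p g → f g = 0) {s : G} (hs : Cfsg.IsPRegular p s) :
    Cfsg.MemLocalRing M (f s / (Nat.card (Subgroup.centralizer ({s} : Set G)) : ℂ)) := by
  classical
  haveI := Fintype.ofFinite G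
  obtain ⟨Q⟩ := (inferInstance : Nonempty (Sylow p (Subgroup.centralizer ({s} : Set G))))
  set P : Subgroup G := (Q : Subgroup (Subgroup.centralizer ({s} : Set G))).map
    (Subgroup.centralizer ({s} : Set G)).subtype with hP
  haveI : Fintype P := Fintype.ofFinite P
  set k : ℕ := (Q : Subgroup (Subgroup.centralizer ({s} : Set G))).index with hk
  have hmul : Nat.card P * k = Nat.card (Subgroup.centralizer ({s} : Set G)) := by
    rw [show Nat.card P = Nat.card (Q : Subgroup (Subgroup.centralizer ({s} : Set G))) from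
      Subgroup.card_map_of_injective (Subgroup.subtype_injective _)]
    exact Subgroup.card_mul_index _
  have hcomm : ∀ u ∈ P, Commute s u := by
    intro u hu
    obtain ⟨v, -, rfl⟩ := hu
    exact ((Subgroup.mem_centralizer_singleton_iff).1 v.2).symm
  have hsum : ∑ u : P, f (s * u) = f s := by
    rw [Finset.sum_eq_single (1 : P)]
    · rw [OneMemClass.coe_one, mul_one]
    · intro u _ hu
      refine hvan _ fun hreg => hu (Subtype.ext ?_)
      obtain ⟨v, hv, hvu⟩ := u.2
      obtain ⟨j, hj⟩ := Q.isPGroup' ⟨v, hv⟩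
      refine eq_one_of_regular_mul (hcomm u u.2) hs (k := j) ?_ hreg
      rw [← hvu, ← map_pow]
      have : v ^ p ^ j = 1 := congrArg Subtype.val hj
      rw [this, map_one]
    · exact fun h => absurd (Finset.mem_univ _) h
  have heq : f s / (Nat.card (Subgroup.centralizer ({s} : Set G)) : ℂ) =
      (k : ℂ)⁻¹ * ∑ χ ∈ S, b χ * ((Nat.card P : ℂ)⁻¹ * ∑ u : P, (χ : G → ℂ) (s * u)) := by
    rw [← hsum, ← hmul, Nat.cast_mul, div_eq_mul_inv, mul_inv, Finset.mul_sum]
    simp only [hf, Finset.sum_mul, Finset.mul_sum]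
    rw [Finset.sum_comm]
    exact Finset.sum_congr rfl fun χ _ => Finset.sum_congr rfl fun u _ => by ring
  rw [heq]
  exact memRing_mul hM (memRing_inv_natCast hM Q.not_dvd_index) (memRing_sum hM _ fun χ _ =>
    memRing_mul hM (hb χ) (memRing_algInt hM (isIntegral_avg_trace P s hcomm χ)))

/-- In a block of rank one the common restriction is divisible, after multiplication by the order
of a defect group, by the orders of the centralizers. -/
theorem memRing_rankOne [Fintype G] (hM : Cfsg.IsPModular p M) {B : Set (Cfsg.IrrCharacter G)}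
    [Fintype B] (hB : Cfsg.IsPBlock M B) {φ : G → ℂ} {d : Cfsg.IrrCharacter G → ℕ}
    (hd : ∀ χ ∈ B, ∀ x : G, Cfsg.IsPRegular p x → (χ : G → ℂ) x = (d χ : ℂ) * φ x)
    {N : ℕ} (hN : ∑ χ ∈ B.toFinset, d χ ^ 2 = N) {s : G} (hs : Cfsg.IsPRegular p s) :
    Cfsg.MemLocalRing M ((N : ℂ) * φ s /
      (Nat.card (Subgroup.centralizer ({s} : Set G)) : ℂ)) := by
  classical
  have h1 : Cfsg.IsPRegular p (1 : G) := by
    simp [Cfsg.IsPRegular, (Fact.out : p.Prime).ne_one]
  obtain ⟨θ, hθ⟩ := block_nonempty hM hB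
  have hφ1 : φ 1 ≠ 0 := fun h => deg_ne_zero θ (by rw [hd θ hθ 1 h1, h, mul_zero])
  have hval : (∑ χ ∈ B.toFinset, (d χ : ℂ) * (χ : G → ℂ) s) = (N : ℂ) * φ s := by
    rw [← hN, Nat.cast_sum, Finset.sum_mul]
    refine Finset.sum_congr rfl fun χ hχ => ?_
    rw [hd χ (Set.mem_toFinset.1 hχ) s hs]
    push_cast
    ring
  rw [← hval]
  refine memRing_div_centralizer hM (b := fun χ => (d χ : ℂ))
    (fun χ => memRing_natCast hM _) B.toFinset
    (f := fun g => ∑ χ ∈ B.toFinset, (d χ : ℂ) * (χ : G → ℂ) g) (fun g => rfl) ?_ hs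
  intro y hy
  have horth := block_orth_swap hM hB 1 y h1 (by simpa [Cfsg.IsPRegular] using hy)
  refine mul_left_cancel₀ ((map_ne_zero (starRingEnd ℂ)).2 hφ1) ?_
  rw [mul_zero, ← horth, finsum_mem_eq_toFinset_sum, Finset.mul_sum]
  refine Finset.sum_congr rfl fun χ hχ => ?_
  rw [hd χ (Set.mem_toFinset.1 hχ) 1 h1, map_mul, map_natCast]
  ring

end CfsgLib.PerfIso
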