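import Cfsg.Agent.Lib.BlockRank.Watanabe.Sections
import Cfsg.Agent.Lib.PerfIso.Divide

/-!
The columns of generalized decomposition numbers at subsections of rank one.
-/

set_option autoImplicit false
set_option maxHeartbeats 800000
set_option synthInstance.maxHeartbeats 400000

open Cfsg
open scoped ComplexConjugate

namespace CfsgLib.PerfIso

open CfsgLib.BlockRank

universe u

variable {G : Type u} [Group G] [Finite G] {p : ℕ} [Fact p.Prime] {M : Ideal Cfsg.AlgInt}

/-- A column of a subsection of rank one: the numbers `d χ` and the function `φ`. -/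
structure IsColumn (p : ℕ) (M : Ideal Cfsg.AlgInt) (B : Set (Cfsg.IrrCharacter G)) (x : G)
    (b : Set (Cfsg.IrrCharacter (Subgroup.centralizer ({x} : Set G))))
    (col : Cfsg.IrrCharacter G → ℂ) (φ : Subgroup.centralizer ({x} : Set G) → ℂ) : Prop where
  value : ∀ (χ : Cfsg.IrrCharacter G) (s : Subgroup.centralizer ({x} : Set G)),
    Cfsg.IsPRegular p s →
      Cfsg.blockPart b (fun c : Subgroup.centralizer ({x} : Set G) => (χ : G → ℂ) (x * c)) s =
        col χ * φ s
  integral : ∀ χ, IsIntegral ℤ (col χ)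
  phi_one : φ 1 ≠ 0
  phi_integral : ∀ s, IsIntegral ℤ (φ s)
  phi_dvd : ∀ s : Subgroup.centralizer ({x} : Set G), Cfsg.IsPRegular p s →
    Cfsg.MemLocalRing M (((p ^ Cfsg.blockDefect p B : ℕ) : ℂ) * φ s /
      (Nat.card (Subgroup.centralizer ({s} : Set (Subgroup.centralizer ({x} : Set G)))) : ℂ))
  norm : ∑ᶠ χ ∈ B, col χ * conj (col χ) = ((p ^ Cfsg.blockDefect p B : ℕ) : ℂ)

theorem isPRegular_one {H : Type*} [Group H] : Cfsg.IsPRegular p (1 : H) := by
  simp [Cfsg.IsPRegular, (Fact.out : p.Prime).ne_one]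

/-- Translating a regular element by a non-trivial commuting `p`-element gives a singular one. -/
theorem singular_translate {x : G} (hx : ∃ k : ℕ, orderOf x = p ^ k) (hx1 : x ≠ 1) {c : G}
    (hcx : Commute c x) (hc : Cfsg.IsPRegular p c) : p ∣ orderOf (x * c) := by
  obtain ⟨k, hk⟩ := hx
  by_contra h
  refine hx1 (CfsgLib.BlockReg.eq_one_of_regular_mul hcx hc (k := k) ?_ (by rwa [hcx.eq]))
  rw [← hk, pow_orderOf_eq_one]

/-- Columns exist at major subsections of rank one. -/
theorem exists_column (hM : Cfsg.IsPModular p M) {B : Set (Cfsg.IrrCharacter G)} {x : G}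
    (hx : ∃ k : ℕ, orderOf x = p ^ k)
    {b : Set (Cfsg.IrrCharacter (Subgroup.centralizer ({x} : Set G)))}
    (hind : Cfsg.IsInducedBlock M (Subgroup.centralizer ({x} : Set G)) b B)
    (hdef : Cfsg.blockDefect p b = Cfsg.blockDefect p B) (hl : Cfsg.blockRank p b = 1) :
    ∃ col φ, IsColumn p M B x b col φ := by
  classical
  haveI := Fintype.ofFinite G
  haveI := Fintype.ofFinite (Subgroup.centralizer ({x} : Set G))
  haveI := Fintype.ofFinite b
  haveI := Fintype.ofFinite B
  obtain ⟨φ, n, d, hφ, hd, hsum⟩ := exists_rankOne_data hM hind.1 hl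
  have hn0 : 0 < orderOf x := orderOf_pos x
  obtain ⟨ζ, hζ⟩ : ∃ ζ : ℂ, IsPrimitiveRoot ζ (orderOf x) :=
    ⟨_, Complex.isPrimitiveRoot_exp _ hn0.ne'⟩
  have hbp := fun χ => exists_blockPart_translate (C := Subgroup.centralizer ({x} : Set G)) rfl hζ χ
  choose m i hres hm using hbp
  let col : Cfsg.IrrCharacter G → ℂ :=
    fun χ => ∑ θ ∈ b.toFinset, (m χ θ : ℂ) * ζ ^ i χ θ * (d θ : ℂ)
  have hval : ∀ (χ : Cfsg.IrrCharacter G) (s : Subgroup.centralizer ({x} : Set G)),
      Cfsg.IsPRegular p s →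
      Cfsg.blockPart b (fun c : Subgroup.centralizer ({x} : Set G) => (χ : G → ℂ) (x * c)) s =
        col χ * φ s := by
    intro χ s hs
    rw [hm χ b s, Finset.sum_mul]
    exact Finset.sum_congr rfl fun θ hθ => by rw [hd θ (Set.mem_toFinset.1 hθ) s hs]; ring
  obtain ⟨θ, hθ⟩ := CfsgLib.BlockReg.block_nonempty hM hind.1
  have hφ1 : φ 1 ≠ 0 := fun h =>
    CfsgLib.BlockReg.deg_ne_zero θ (by rw [hd θ hθ 1 isPRegular_one, h, mul_zero])
  -- the norm of `φ`
  set S : ℂ := ∑ s ∈ regSet (G := Subgroup.centralizer ({x} : Set G)) p, φ s * conj (φ s)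
  have hS : ((p ^ Cfsg.blockDefect p b : ℕ) : ℂ) * S =
      (Nat.card (Subgroup.centralizer ({x} : Set G)) : ℂ) := by
    have h := cast_blockRank_eq b (regClosed_of_isPBlock hM hind.1)
    rw [hl, Nat.cast_one, ← Finset.sum_subtype b.toFinset (fun x => Set.mem_toFinset)
      (fun χ : Cfsg.IrrCharacter (Subgroup.centralizer ({x} : Set G)) => Cfsg.classInner
        (Cfsg.pRegularPart p (χ : Subgroup.centralizer ({x} : Set G) → ℂ))
        (χ : Subgroup.centralizer ({x} : Set G) → ℂ))] at h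
    have hterm : ∀ χ ∈ b.toFinset, Cfsg.classInner
        (Cfsg.pRegularPart p (χ : Subgroup.centralizer ({x} : Set G) → ℂ))
        (χ : Subgroup.centralizer ({x} : Set G) → ℂ) =
        (Nat.card (Subgroup.centralizer ({x} : Set G)) : ℂ)⁻¹ * ((d χ ^ 2 : ℕ) : ℂ) * S := by
      intro χ hχ
      rw [classInner_pRegularPart_eq, regPair, mul_assoc, Finset.mul_sum (a := ((d χ ^ 2 : ℕ) : ℂ))]
      refine congrArg _ (Finset.sum_congr rfl fun s hs => ?_)
      rw [hd χ (Set.mem_toFinset.1 hχ) s (Finset.mem_filter.1 hs).2, map_mul, map_natCast]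
      push_cast
      ring
    rw [Finset.sum_congr rfl hterm, ← Finset.sum_mul, ← Finset.mul_sum, ← Nat.cast_sum, hsum] at h
    have hC0 : (Nat.card (Subgroup.centralizer ({x} : Set G)) : ℂ) ≠ 0 :=
      Nat.cast_ne_zero.2 Nat.card_pos.ne'
    field_simp at h
    exact h.symm
  refine ⟨col, φ,
    { value := hval
      integral := fun χ => ?_
      phi_one := hφ1
      phi_integral := fun s => ?_
      phi_dvd := fun s hs => hdef ▸ memRing_rankOne hM hind.1 hd hsum hs
      norm := ?_ }⟩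
  · refine IsIntegral.sum _ fun θ _ => ?_
    exact ((isIntegral_algebraMap (x := (m χ θ : ℤ))).mul
      ((hζ.isIntegral hn0).pow _)).mul (isIntegral_algebraMap (x := (d θ : ℤ)))
  · rw [hφ]
    refine IsIntegral.sum _ fun ψ _ => ?_
    refine (isIntegral_algebraMap (x := n ψ)).mul ?_
    exact CfsgLib.Char.IsGeneralizedCharacter.isIntegral_apply (CfsgLib.Char.IsIrrCharacter.isGeneralizedCharacter ψ.2) s
  · rw [finsum_mem_eq_toFinset_sum]
    have h := sum_regNorm_translate_block hM (C := Subgroup.centralizer ({x} : Set G)) rfl hx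
      hind.1 hind
    rw [hl, Nat.cast_one, mul_one] at h
    have hterm : ∀ χ : Cfsg.IrrCharacter G,
        regNorm p b (fun c : Subgroup.centralizer ({x} : Set G) => (χ : G → ℂ) (x * c)) =
          col χ * conj (col χ) * S := by
      intro χ
      rw [regNorm_eq, Finset.mul_sum]
      refine Finset.sum_congr rfl fun s hs => ?_
      rw [hval χ s (Finset.mem_filter.1 hs).2, map_mul]
      ring
    rw [Finset.sum_congr rfl fun χ _ => hterm χ, ← Finset.sum_mul] at h
    have hS0 : S ≠ 0 := fun h0 => by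
      rw [h0, mul_zero] at hS
      exact Nat.cast_ne_zero.2 Nat.card_pos.ne' hS.symm
    refine mul_right_cancel₀ hS0 ?_
    rw [h, ← hS, hdef]

variable {B : Set (Cfsg.IrrCharacter G)} {x : G}
  {b : Set (Cfsg.IrrCharacter (Subgroup.centralizer ({x} : Set G)))}
  {col : Cfsg.IrrCharacter G → ℂ} {φ : Subgroup.centralizer ({x} : Set G) → ℂ}

/-- The columns of a non-trivial subsection are orthogonal to the values at regular elements. -/
theorem IsColumn.orth_regular (h : IsColumn p M B x b col φ) (hM : Cfsg.IsPModular p M)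
    (hB : Cfsg.IsPBlock M B) (hb : Cfsg.IsPBlock M b) (hx : ∃ k : ℕ, orderOf x = p ^ k)
    (hx1 : x ≠ 1) {r : G} (hr : Cfsg.IsPRegular p r) :
    ∑ᶠ χ ∈ B, (χ : G → ℂ) r * conj (col χ) = 0 := by
  classical
  haveI := Fintype.ofFinite G
  haveI := Fintype.ofFinite (Subgroup.centralizer ({x} : Set G))
  haveI := Fintype.ofFinite b
  haveI := Fintype.ofFinite B
  refine mul_left_cancel₀ ((map_ne_zero (starRingEnd ℂ)).2 h.phi_one) ?_
  rw [mul_zero, finsum_mem_eq_toFinset_sum, Finset.mul_sum]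
  have hterm : ∀ χ ∈ B.toFinset, conj (φ 1) * ((χ : G → ℂ) r * conj (col χ)) =
      ∑ c : Subgroup.centralizer ({x} : Set G), conj (projKer b 1 c) *
        ((χ : G → ℂ) r * conj ((χ : G → ℂ) (x * c))) := by
    intro χ _
    rw [show conj (φ 1) * ((χ : G → ℂ) r * conj (col χ)) =
      (χ : G → ℂ) r * conj (col χ * φ 1) by rw [map_mul]; ring, ← h.value χ 1 isPRegular_one,
      blockPart_eq_projKer, map_sum, Finset.mul_sum]
    exact Finset.sum_congr rfl fun c _ => by rw [map_mul]; ring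
  rw [Finset.sum_congr rfl hterm, Finset.sum_comm]
  refine Finset.sum_eq_zero fun c _ => ?_
  by_cases hc : Cfsg.IsPRegular p c
  · have hsing : p ∣ orderOf (x * (c : G)) := singular_translate hx hx1
      (Subgroup.mem_centralizer_singleton_iff.1 c.2)
      (by rwa [Cfsg.IsPRegular, Subgroup.orderOf_coe])
    have h0 := CfsgLib.BlockReg.block_orthogonality hM hB r (x * c) hr hsing
    rw [finsum_mem_eq_toFinset_sum] at h0
    rw [← Finset.mul_sum, h0, mul_zero]
  · simp [projKer_eq_zero hM hb isPRegular_one hc]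

/-- Outside the induced block the block part vanishes. -/
theorem blockPart_eq_zero_of_not_mem (hM : Cfsg.IsPModular p M)
    (hx : ∃ k : ℕ, orderOf x = p ^ k)
    (hind : Cfsg.IsInducedBlock M (Subgroup.centralizer ({x} : Set G)) b B)
    {χ : Cfsg.IrrCharacter G} (hχ : χ ∉ B) (s : Subgroup.centralizer ({x} : Set G))
    (hs : Cfsg.IsPRegular p s) :
    Cfsg.blockPart b (fun c : Subgroup.centralizer ({x} : Set G) => (χ : G → ℂ) (x * c)) s = 0 := by
  classical
  haveI : M.IsMaximal := hM.2.1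
  exact Cfsg.Agent.S0923.result p M hM x hx (Cfsg.blockOf M (χ : G → ℂ)) ⟨χ, rfl⟩ χ
    (CfsgLib.BlockReg.sameBlock_refl hM _) b hind.1 (fun hind' => hχ (by
      rw [CfsgLib.Blocks.IsInducedBlock.unique hind hind']
      exact CfsgLib.BlockReg.sameBlock_refl hM _)) s hs

/-- Columns at non-conjugate elements are orthogonal. -/
theorem IsColumn.orth_of_not_isConj (h : IsColumn p M B x b col φ) (hM : Cfsg.IsPModular p M)
    (hx : ∃ k : ℕ, orderOf x = p ^ k)
    (hind : Cfsg.IsInducedBlock M (Subgroup.centralizer ({x} : Set G)) b B) {x' : G}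
    {b' : Set (Cfsg.IrrCharacter (Subgroup.centralizer ({x'} : Set G)))}
    {col' : Cfsg.IrrCharacter G → ℂ} {φ' : Subgroup.centralizer ({x'} : Set G) → ℂ}
    (h' : IsColumn p M B x' b' col' φ') (hx' : ∃ k : ℕ, orderOf x' = p ^ k)
    (hind' : Cfsg.IsInducedBlock M (Subgroup.centralizer ({x'} : Set G)) b' B)
    (hne : ¬ IsConj x x') : ∑ᶠ χ ∈ B, col χ * conj (col' χ) = 0 := by
  classical
  haveI := Fintype.ofFinite G
  haveI := Fintype.ofFinite (Subgroup.centralizer ({x} : Set G))
  haveI := Fintype.ofFinite (Subgroup.centralizer ({x'} : Set G))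
  haveI := Fintype.ofFinite b
  haveI := Fintype.ofFinite b'
  haveI := Fintype.ofFinite B
  refine mul_left_cancel₀ (mul_ne_zero h.phi_one ((map_ne_zero (starRingEnd ℂ)).2 h'.phi_one)) ?_
  rw [mul_zero, finsum_mem_eq_toFinset_sum, Finset.mul_sum]
  let F := fun (χ : Cfsg.IrrCharacter G) =>
    Cfsg.blockPart b (fun c : Subgroup.centralizer ({x} : Set G) => (χ : G → ℂ) (x * c)) 1
  let F' := fun (χ : Cfsg.IrrCharacter G) =>
    Cfsg.blockPart b' (fun c : Subgroup.centralizer ({x'} : Set G) => (χ : G → ℂ) (x' * c)) 1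
  have hterm : ∀ χ ∈ B.toFinset,
      φ 1 * conj (φ' 1) * (col χ * conj (col' χ)) = F χ * conj (F' χ) := by
    intro χ _
    simp only [F, F', h.value χ 1 isPRegular_one, h'.value χ 1 isPRegular_one, map_mul]
    ring
  rw [Finset.sum_congr rfl hterm, Finset.sum_subset (Finset.subset_univ _) fun χ _ hχ => by
    simp only [F]
    rw [blockPart_eq_zero_of_not_mem hM hx hind (fun hh => hχ (Set.mem_toFinset.2 hh)) 1
      isPRegular_one, zero_mul]]
  simp only [F, F', blockPart_eq_projKer, map_sum, map_mul, Finset.sum_mul, Finset.mul_sum]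
  rw [Finset.sum_comm]
  refine Finset.sum_eq_zero fun c' _ => ?_
  rw [Finset.sum_comm]
  refine Finset.sum_eq_zero fun c _ => ?_
  by_cases hc : Cfsg.IsPRegular p c
  swap
  · simp [projKer_eq_zero hM hind.1 isPRegular_one hc]
  by_cases hc' : Cfsg.IsPRegular p c'
  swap
  · simp [projKer_eq_zero hM hind'.1 isPRegular_one hc']
  rw [show (∑ χ : Cfsg.IrrCharacter G, projKer b 1 c * (χ : G → ℂ) (x * c) *
      (conj (projKer b' 1 c') * conj ((χ : G → ℂ) (x' * c')))) =
      projKer b 1 c * conj (projKer b' 1 c') *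
        ∑ χ : Cfsg.IrrCharacter G, (χ : G → ℂ) (x * c) * conj ((χ : G → ℂ) (x' * c')) by
    rw [Finset.mul_sum]; exact Finset.sum_congr rfl fun χ _ => by ring,
    CfsgLib.Char.sum_mul_conj, if_neg, mul_zero]
  intro hconj
  apply hne
  obtain ⟨g, hg⟩ := isConj_iff.1 hconj
  obtain ⟨k, hk⟩ := hx
  obtain ⟨k', hk'⟩ := hx'
  have h1 := CfsgLib.Blocks.isPPart_of_commute
    (Subgroup.mem_centralizer_singleton_iff.1 c.2 : Commute (c : G) x).symm hk
    (by rw [Subgroup.orderOf_coe]; exact hc)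
  have h2 := CfsgLib.Blocks.isPPart_of_commute
    (Subgroup.mem_centralizer_singleton_iff.1 c'.2 : Commute (c' : G) x').symm hk'
    (by rw [Subgroup.orderOf_coe]; exact hc')
  have h3 := CfsgLib.Blocks.IsPPart.conj h1 g
  rw [hg] at h3
  exact isConj_iff.2 ⟨g, CfsgLib.Blocks.IsPPart.unique Fact.out h3 h2⟩

/-- Columns of different blocks at one element are orthogonal. -/
theorem IsColumn.orth_of_ne (h : IsColumn p M B x b col φ) (hM : Cfsg.IsPModular p M)
    (hx : ∃ k : ℕ, orderOf x = p ^ k)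
    (hind : Cfsg.IsInducedBlock M (Subgroup.centralizer ({x} : Set G)) b B)
    {b' : Set (Cfsg.IrrCharacter (Subgroup.centralizer ({x} : Set G)))}
    {col' : Cfsg.IrrCharacter G → ℂ} {φ' : Subgroup.centralizer ({x} : Set G) → ℂ}
    (h' : IsColumn p M B x b' col' φ')
    (hind' : Cfsg.IsInducedBlock M (Subgroup.centralizer ({x} : Set G)) b' B) (hne : b ≠ b') :
    ∑ᶠ χ ∈ B, col χ * conj (col' χ) = 0 := by
  classical
  haveI := Fintype.ofFinite G
  haveI := Fintype.ofFinite (Subgroup.centralizer ({x} : Set G))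
  haveI := Fintype.ofFinite b
  haveI := Fintype.ofFinite b'
  haveI := Fintype.ofFinite B
  refine mul_left_cancel₀ (mul_ne_zero h.phi_one ((map_ne_zero (starRingEnd ℂ)).2 h'.phi_one)) ?_
  rw [mul_zero, finsum_mem_eq_toFinset_sum, Finset.mul_sum]
  let F := fun (χ : Cfsg.IrrCharacter G) =>
    Cfsg.blockPart b (fun c : Subgroup.centralizer ({x} : Set G) => (χ : G → ℂ) (x * c)) 1
  let F' := fun (χ : Cfsg.IrrCharacter G) =>
    Cfsg.blockPart b' (fun c : Subgroup.centralizer ({x} : Set G) => (χ : G → ℂ) (x * c)) 1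
  have hterm : ∀ χ ∈ B.toFinset,
      φ 1 * conj (φ' 1) * (col χ * conj (col' χ)) = F χ * conj (F' χ) := by
    intro χ _
    simp only [F, F', h.value χ 1 isPRegular_one, h'.value χ 1 isPRegular_one, map_mul]
    ring
  rw [Finset.sum_congr rfl hterm, Finset.sum_subset (Finset.subset_univ _) fun χ _ hχ => by
    simp only [F]
    rw [blockPart_eq_zero_of_not_mem hM hx hind (fun hh => hχ (Set.mem_toFinset.2 hh)) 1
      isPRegular_one, zero_mul]]
  have hzero : ∀ θ : Cfsg.IrrCharacter (Subgroup.centralizer ({x} : Set G)),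
      Cfsg.blockPart b (θ : Subgroup.centralizer ({x} : Set G) → ℂ) 1 *
        conj (Cfsg.blockPart b' (θ : Subgroup.centralizer ({x} : Set G) → ℂ) 1) = 0 := by
    intro θ
    haveI : M.IsMaximal := hM.2.1
    rw [blockPart_irr, blockPart_irr]
    by_cases hθ : θ ∈ b
    · rw [if_neg fun hθ' => hne (CfsgLib.Blocks.IsPBlock.eq_of_mem hind.1 hind'.1 hθ hθ'), map_zero, mul_zero]
    · rw [if_neg hθ, zero_mul]
  refine Eq.trans ?_ (Finset.sum_eq_zero (s := Finset.univ) fun θ _ => hzero θ)
  simp only [F, F', blockPart_eq_projKer, map_sum, map_mul, Finset.sum_mul, Finset.mul_sum]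
  rw [Finset.sum_comm]
  conv_rhs => rw [Finset.sum_comm]
  refine Finset.sum_congr rfl fun c' _ => ?_
  rw [Finset.sum_comm]
  conv_rhs => rw [Finset.sum_comm]
  refine Finset.sum_congr rfl fun c _ => ?_
  by_cases hc : Cfsg.IsPRegular p c
  swap
  · simp [projKer_eq_zero hM hind.1 isPRegular_one hc]
  by_cases hc' : Cfsg.IsPRegular p c'
  swap
  · simp [projKer_eq_zero hM hind'.1 isPRegular_one hc']
  have hkey := sum_translate_mul_conj (p := p) (C := Subgroup.centralizer ({x} : Set G)) rfl hx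
    c c' hc hc'
  calc (∑ χ : Cfsg.IrrCharacter G, projKer b 1 c * (χ : G → ℂ) (x * c) *
        (conj (projKer b' 1 c') * conj ((χ : G → ℂ) (x * c'))))
      = projKer b 1 c * conj (projKer b' 1 c') *
          ∑ χ : Cfsg.IrrCharacter G, (χ : G → ℂ) (x * c) * conj ((χ : G → ℂ) (x * c')) := by
        rw [Finset.mul_sum]; exact Finset.sum_congr rfl fun χ _ => by ring
    _ = _ := by
        rw [hkey, Finset.mul_sum]
        exact Finset.sum_congr rfl fun θ _ => by ring

/-- A column of a major subsection has no zero entries in the block. -/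
theorem IsColumn.ne_zero (h : IsColumn p M B x b col φ) (hM : Cfsg.IsPModular p M)
    (hx : ∃ k : ℕ, orderOf x = p ^ k)
    (hind : Cfsg.IsInducedBlock M (Subgroup.centralizer ({x} : Set G)) b B)
    (hdef : Cfsg.blockDefect p b = Cfsg.blockDefect p B) {χ : Cfsg.IrrCharacter G} (hχ : χ ∈ B) :
    col χ ≠ 0 := by
  classical
  haveI := Fintype.ofFinite G
  haveI := Fintype.ofFinite (Subgroup.centralizer ({x} : Set G))
  obtain ⟨ψ, hψ, hh⟩ := CfsgLib.BlockReg.exists_minExp (p := p) (CfsgLib.BlockReg.block_nonempty hM hind.2.1)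
  intro h0
  refine contrib_ne_zero hM rfl hx hind hdef hχ hψ hh ?_
  rw [contrib, regPair]
  refine mul_eq_zero_of_right _ (mul_eq_zero_of_right _ (Finset.sum_eq_zero fun s hs => ?_))
  rw [h.value χ s (Finset.mem_filter.1 hs).2, h0, zero_mul, zero_mul]

open CfsgLib.Blocks in
/-- The value of a character of the block at a section. -/
theorem apply_translate (hM : Cfsg.IsPModular p M) (hB : Cfsg.IsPBlock M B)
    (hx : ∃ k : ℕ, orderOf x = p ^ k) {χ : Cfsg.IrrCharacter G} (hχ : χ ∈ B)
    (s : Subgroup.centralizer ({x} : Set G)) (hs : Cfsg.IsPRegular p s) :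
    (χ : G → ℂ) (x * s) =
      ∑ᶠ b ∈ {b : Set (Cfsg.IrrCharacter (Subgroup.centralizer ({x} : Set G))) |
          Cfsg.IsInducedBlock M (Subgroup.centralizer ({x} : Set G)) b B},
        Cfsg.blockPart b (fun c : Subgroup.centralizer ({x} : Set G) => (χ : G → ℂ) (x * c)) s := by
  classical
  haveI := Fintype.ofFinite G
  haveI := Fintype.ofFinite (Subgroup.centralizer ({x} : Set G))
  have := Fintype.ofFinite
    {b : Set (Cfsg.IrrCharacter (Subgroup.centralizer ({x} : Set G))) // Cfsg.IsPBlock M b}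
  set S := {b : Set (Cfsg.IrrCharacter (Subgroup.centralizer ({x} : Set G))) |
    Cfsg.IsInducedBlock M (Subgroup.centralizer ({x} : Set G)) b B}
  rw [finsum_mem_eq_toFinset_sum]
  refine (sum_blockPart_blocks hM (isClassFunction_translate rfl χ) s).trans ?_
  refine Finset.sum_bij_ne_zero (fun b _ _ => b.1) (fun b _ hb => ?_)
    (fun a _ _ b _ _ h => Subtype.ext h)
    (fun b hb h0 => ⟨⟨b, (Set.mem_toFinset.1 hb).1⟩, Finset.mem_univ _, h0, rfl⟩)
    fun b _ _ => rfl
  rw [Set.mem_toFinset]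
  obtain ⟨B', hB'⟩ := exists_isInducedBlock_centralizer hM rfl hx b.2
  by_contra hcon
  haveI : M.IsMaximal := hM.2.1
  refine hb (blockPart_eq_zero_of_not_mem hM hx hB' (fun hχ' => hcon ?_) s hs)
  show Cfsg.IsInducedBlock M _ b.1 B
  rwa [IsPBlock.eq_of_mem hB hB'.2.1 hχ hχ']

end CfsgLib.PerfIso
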