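import Cfsg.Agent.Lib.PerfIso.OrbitData
import Mathlib.LinearAlgebra.Matrix.NonsingularInverse

/-!
The columns of the singular sections of a block with free inertial action: the exceptional
characters match the orbit sums.
-/

set_option autoImplicit false
open scoped ComplexConjugate Matrix

namespace CfsgLib.PerfIso

open CfsgLib.Blk83.FreeOrbit

variable {A : Type*} [CommGroup A] [Finite A] {T : Subgroup (MulAut A)}
variable {ι X Y : Type*} [Fintype ι] [Fintype X] [Fintype Y]

omit [Finite A] in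
/-- The squares of the constants of the columns add up to the number of columns. -/
theorem sum_normSq_eq (hcard : Fintype.card Y = Fintype.card ι) (N e : ℕ)
    (hN : N = 1 + e * Fintype.card ι) (δ₀ : ℤ) (hδ₀ : δ₀ = 1 ∨ δ₀ = -1)
    (d : ι → Y → ℂ) (c : ι → ℂ) (hsum : ∀ i, (δ₀ : ℂ) * ∑ ψ, d i ψ = c i)
    (horth : ∀ i j, (e : ℂ) * (c i * conj (c j)) + ∑ ψ, d i ψ * conj (d j ψ) =
      @ite ℂ (i = j) (Classical.propDecidable _) (N : ℂ) 0) :
    ∑ i, Complex.normSq (c i) = Fintype.card ι := by
  classical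
  obtain ⟨σ⟩ : Nonempty (ι ≃ Y) := ⟨(Fintype.equivOfCardEq hcard).symm⟩
  let V : Matrix ι ι ℂ := Matrix.of fun i k => d i (σ k)
  let W : Matrix ι ι ℂ := Matrix.of fun k j =>
    (N : ℂ)⁻¹ * (conj (d j (σ k)) + (e : ℂ) * (δ₀ : ℂ) * conj (c j))
  have hδ : (δ₀ : ℂ) * δ₀ = 1 := by
    rcases hδ₀ with rfl | rfl <;> norm_num
  have hsum' : ∀ i, ∑ k, d i (σ k) = (δ₀ : ℂ) * c i := fun i => by
    rw [σ.sum_comp (fun ψ => d i ψ), ← hsum i, ← mul_assoc, hδ, one_mul]
  have hN0 : (N : ℂ) ≠ 0 := Nat.cast_ne_zero.2 (by omega)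
  have hVW : V * W = 1 := by
    ext i j
    simp only [Matrix.mul_apply, V, W, Matrix.of_apply, Matrix.one_apply]
    have h := horth i j
    rw [← σ.sum_comp (fun ψ => d i ψ * conj (d j ψ))] at h
    calc ∑ k, d i (σ k) * ((N : ℂ)⁻¹ * (conj (d j (σ k)) + (e : ℂ) * δ₀ * conj (c j)))
        = (N : ℂ)⁻¹ * ((∑ k, d i (σ k) * conj (d j (σ k))) +
            (∑ k, d i (σ k)) * ((e : ℂ) * δ₀ * conj (c j))) := by
          rw [Finset.sum_mul, ← Finset.sum_add_distrib, Finset.mul_sum]
          exact Finset.sum_congr rfl fun k _ => by ring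
      _ = (N : ℂ)⁻¹ * (if i = j then (N : ℂ) else 0) := by
          rw [← h, hsum']
          linear_combination (N : ℂ)⁻¹ * (e : ℂ) * c i * conj (c j) * hδ
      _ = _ := by
          by_cases hij : i = j <;> simp [hij, hN0]
  have hWV : W * V = 1 := mul_eq_one_comm.mp hVW
  have h1 : ∑ k, ∑ l, (W * V) k l = (Fintype.card ι : ℂ) := by
    rw [hWV]
    simp [Matrix.one_apply]
  have h2 : ∑ k, ∑ l, (W * V) k l = ∑ j, conj (c j) * c j := by
    simp only [Matrix.mul_apply, V, W, Matrix.of_apply]
    rw [Finset.sum_congr rfl fun k (_ : k ∈ Finset.univ) => Finset.sum_comm, Finset.sum_comm]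
    refine Finset.sum_congr rfl fun j _ => ?_
    have hc : ∑ k, conj (d j (σ k)) = (δ₀ : ℂ) * conj (c j) := by
      rw [← map_sum, hsum', map_mul, map_intCast]
    simp only [← Finset.mul_sum, ← Finset.sum_mul, Finset.sum_add_distrib, hsum', hc,
      Finset.sum_const, Finset.card_univ, nsmul_eq_mul]
    have hN' : (N : ℂ) = 1 + (e : ℂ) * (Fintype.card ι : ℂ) := by exact_mod_cast hN
    field_simp
    linear_combination conj (c j) * c j * (1 + (e : ℂ) * (Fintype.card ι : ℂ)) * hδ -
      conj (c j) * c j * hN'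
  have h3 : ((∑ i, Complex.normSq (c i) : ℝ) : ℂ) = ((Fintype.card ι : ℝ) : ℂ) := by
    push_cast
    rw [← h1, h2]
    exact Finset.sum_congr rfl fun i _ => by rw [← Complex.mul_conj, mul_comm]
  exact_mod_cast h3

variable [Fintype T] [Fintype (Orb T)] {r : ι → A}

/-- The constants of the columns have absolute value one and the exceptional characters are
matched with the orbits of non-trivial linear characters. -/
theorem exists_match (hr : OrbitReps T r) (hX : Fintype.card X = Nat.card T)
    (hY : Fintype.card Y = Fintype.card ι) (δ₀ : ℤ) (hδ₀ : δ₀ = 1 ∨ δ₀ = -1)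
    (d : ι → Y → ℂ) (c : ι → ℂ) (hne : ∀ i, c i ≠ 0)
    (hsum : ∀ i, (δ₀ : ℂ) * ∑ ψ, d i ψ = c i)
    (horth : ∀ i j, (Fintype.card X : ℂ) * (c i * conj (c j)) + ∑ ψ, d i ψ * conj (d j ψ) =
      @ite ℂ (i = j) (Classical.propDecidable _) (Nat.card A : ℂ) 0)
    (hintX : ∀ q : Orb T, ∃ z : ℤ, (Nat.card A : ℂ)⁻¹ *
      ∑ i, (orbSum T (rep T q) (r i) - Nat.card T) * (c i * conj (c i)) = z)
    (hintY : ∀ (q : Orb T) (ψ : Y), ∃ z : ℤ, (Nat.card A : ℂ)⁻¹ *
      ∑ i, (orbSum T (rep T q) (r i) - Nat.card T) * (c i * conj (d i ψ)) = z) :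
    (∀ i, c i * conj (c i) = 1) ∧ ∃ π : Orb T → Y, Function.Bijective π ∧
      ∀ i q, d i (π q) = -(δ₀ : ℂ) * c i * orbSum T (rep T q) (r i) := by
  classical
  haveI : Fintype A := Fintype.ofFinite A
  set e := Nat.card T with he
  have he0 : 0 < e := Nat.card_pos
  set N := Nat.card A with hNdef
  have hN : N = 1 + e * Fintype.card ι := hr.card_eq
  have hN0 : (N : ℂ) ≠ 0 := Nat.cast_ne_zero.2 (by omega)
  rw [hX] at horth
  have hδ : (δ₀ : ℂ) * δ₀ = 1 := by rcases hδ₀ with rfl | rfl <;> norm_num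
  have hnorm := sum_normSq_eq hY N e hN δ₀ hδ₀ d c hsum horth
  have hcc : ∀ i, c i * conj (c i) = (Complex.normSq (c i) : ℂ) := fun i => Complex.mul_conj _
  have habs : ∀ (q : Orb T) i, ‖orbSum T (rep T q) (r i)‖ ≤ e := fun q i => by
    unfold orbSum
    refine (norm_sum_le _ _).trans (le_of_eq ?_)
    rw [he, Nat.card_eq_fintype_card, Finset.sum_congr rfl fun a _ => ?_, Finset.sum_const,
      nsmul_eq_mul, mul_one, Finset.card_univ]
    exact Complex.norm_eq_one_of_pow_eq_one (n := Nat.card A)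
      (by rw [← Units.val_pow_eq_pow_val, ← map_pow, pow_card_eq_one', map_one, Units.val_one])
      Nat.card_pos.ne'
  have hre : ∀ (q : Orb T) i, (orbSum T (rep T q) (r i)).re ≤ e := fun q i =>
    (Complex.re_le_norm _).trans (habs q i)
  have hre' : ∀ (q : Orb T) i, -(e : ℝ) ≤ (orbSum T (rep T q) (r i)).re := fun q i => by
    have := (abs_le.1 ((Complex.abs_re_le_norm _).trans (habs q i))).1
    exact this
  -- the sums against the squares of the constants
  have hS : ∀ q : Orb T, ∑ i, orbSum T (rep T q) (r i) * (c i * conj (c i)) = -1 := by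
    intro q
    obtain ⟨z, hz⟩ := hintX q
    have hz' : ∑ i, orbSum T (rep T q) (r i) * (c i * conj (c i)) =
        (N : ℂ) * z + (e : ℂ) * Fintype.card ι := by
      rw [← hz, ← mul_assoc, mul_inv_cancel₀ hN0, one_mul,
        show (Fintype.card ι : ℂ) = ∑ i, c i * conj (c i) by
          simp only [hcc]; exact_mod_cast hnorm.symm, Finset.mul_sum, ← Finset.sum_add_distrib]
      exact Finset.sum_congr rfl fun i _ => by ring
    have hzre := congrArg Complex.re hz'
    simp only [hcc, Complex.re_sum, Complex.mul_re, Complex.ofReal_re, Complex.ofReal_im, mul_zero,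
      sub_zero, Complex.add_re, Complex.natCast_re, Complex.natCast_im, Complex.intCast_re,
      Complex.intCast_im] at hzre
    have hlo : -(e : ℝ) * Fintype.card ι ≤
        ∑ i, (orbSum T (rep T q) (r i)).re * Complex.normSq (c i) := by
      rw [← hnorm, Finset.mul_sum]
      exact Finset.sum_le_sum fun i _ =>
        mul_le_mul_of_nonneg_right (hre' q i) (Complex.normSq_nonneg _)
    have hhi : ∑ i, (orbSum T (rep T q) (r i)).re * Complex.normSq (c i) ≤
        (e : ℝ) * Fintype.card ι := by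
      rw [← hnorm, Finset.mul_sum]
      exact Finset.sum_le_sum fun i _ =>
        mul_le_mul_of_nonneg_right (hre q i) (Complex.normSq_nonneg _)
    have hNR : (N : ℝ) = 1 + (e : ℝ) * Fintype.card ι := by exact_mod_cast hN
    have hz1 : z ≤ 0 := by
      by_contra h
      have : (1 : ℝ) ≤ z := by exact_mod_cast (not_le.1 h)
      nlinarith
    have hz2 : -1 ≤ z := by
      by_contra h
      have : (z : ℝ) ≤ -2 := by exact_mod_cast (show z ≤ -2 by omega)
      nlinarith
    rcases (show z = 0 ∨ z = -1 by omega) with rfl | rfl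
    · exfalso
      have heq : ∀ i, (orbSum T (rep T q) (r i)).re = e := by
        intro i
        have hzero : ∑ j, ((e : ℝ) - (orbSum T (rep T q) (r j)).re) * Complex.normSq (c j) = 0 := by
          simp only [sub_mul, Finset.sum_sub_distrib, ← Finset.mul_sum, hnorm, hzre]
          push_cast
          ring
        have := (Finset.sum_eq_zero_iff_of_nonneg fun j _ =>
          mul_nonneg (sub_nonneg.2 (hre q j)) (Complex.normSq_nonneg _)).1 hzero i
          (Finset.mem_univ i)
        rcases mul_eq_zero.1 this with h | h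
        · linarith
        · exact absurd (Complex.normSq_eq_zero.1 h) (hne i)
      have h := congrArg Complex.re (hr.sum_orbSum (rep T q) (rep_ne_one T q))
      simp only [Complex.re_sum, heq, Finset.sum_const, Finset.card_univ, nsmul_eq_mul,
        Complex.neg_re, Complex.one_re] at h
      nlinarith [mul_nonneg (Nat.cast_nonneg (α := ℝ) (Fintype.card ι))
        (Nat.cast_nonneg (α := ℝ) e)]
    · rw [hz']
      have : (N : ℂ) = 1 + (e : ℂ) * Fintype.card ι := by exact_mod_cast hN
      push_cast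
      linear_combination -this
  have hone : ∀ i, c i * conj (c i) = 1 := by
    intro i
    have h := hr.eq_zero_of_orth (f := fun i => c i * conj (c i) - 1) (by
      simp only [Finset.sum_sub_distrib, hcc, Finset.sum_const, Finset.card_univ, nsmul_eq_mul,
        mul_one]
      rw [sub_eq_zero]
      exact_mod_cast hnorm) (fun q => by
      simp only [mul_sub, Finset.sum_sub_distrib, mul_one, hS,
        hr.sum_orbSum (rep T q) (rep_ne_one T q), sub_self]) i
    exact sub_eq_zero.1 h
  refine ⟨hone, ?_⟩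
  -- the integral vectors
  choose z hz using hintY
  have hzsum : ∀ q, (δ₀ : ℂ) * ∑ ψ, (z q ψ : ℂ) = -1 := by
    intro q
    simp only [← hz, ← Finset.mul_sum]
    rw [Finset.sum_comm]
    have h1 : ∀ i, ∑ ψ, (orbSum T (rep T q) (r i) - e) * (c i * conj (d i ψ)) =
        (δ₀ : ℂ) * (orbSum T (rep T q) (r i) - e) := by
      intro i
      have h := congrArg conj (hsum i)
      rw [map_mul, map_intCast, map_sum] at h
      rw [← Finset.mul_sum, ← Finset.mul_sum]
      have h2 : ∑ ψ, conj (d i ψ) = (δ₀ : ℂ) * conj (c i) := by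
        rw [← h, ← mul_assoc, hδ, one_mul]
      rw [h2]
      linear_combination (δ₀ : ℂ) * (orbSum T (rep T q) (r i) - e) * hone i
    rw [Finset.sum_congr rfl fun i _ => h1 i, ← Finset.mul_sum, Finset.sum_sub_distrib,
      hr.sum_orbSum (rep T q) (rep_ne_one T q), Finset.sum_const, Finset.card_univ, nsmul_eq_mul]
    have : (N : ℂ) = 1 + (e : ℂ) * Fintype.card ι := by exact_mod_cast hN
    field_simp
    linear_combination (-1 - (Fintype.card ι : ℂ) * e) * hδ + this
  -- the rows against the vectors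
  have hrow : ∀ q i, -(e : ℂ) * c i + ∑ ψ, (z q ψ : ℂ) * d i ψ =
      (orbSum T (rep T q) (r i) - e) * c i := by
    intro q i
    simp only [← hz, Finset.sum_mul, mul_assoc, ← Finset.mul_sum]
    rw [Finset.sum_comm]
    have h1 : ∀ k, ∑ ψ, (orbSum T (rep T q) (r k) - e) * (c k * (conj (d k ψ) * d i ψ)) =
        (orbSum T (rep T q) (r k) - e) * c k *
          ((if i = k then (N : ℂ) else 0) - e * (c i * conj (c k))) := by
      intro k
      rw [← horth i k, add_sub_cancel_left, Finset.mul_sum]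
      exact Finset.sum_congr rfl fun ψ _ => by ring
    rw [Finset.sum_congr rfl fun k _ => h1 k]
    simp only [mul_sub, Finset.sum_sub_distrib, mul_ite, mul_zero, Finset.sum_ite_eq,
      Finset.mem_univ, if_true]
    have h2 : ∑ k, (orbSum T (rep T q) (r k) - e) * c k * ((e : ℂ) * (c i * conj (c k))) =
        (e : ℂ) * c i * ∑ k, (orbSum T (rep T q) (r k) - e) := by
      rw [Finset.mul_sum]
      exact Finset.sum_congr rfl fun k _ => by
        linear_combination (orbSum T (rep T q) (r k) - e) * e * c i * hone k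
    rw [h2, Finset.sum_sub_distrib, hr.sum_orbSum (rep T q) (rep_ne_one T q), Finset.sum_const,
      Finset.card_univ, nsmul_eq_mul]
    have : (N : ℂ) = 1 + (e : ℂ) * Fintype.card ι := by exact_mod_cast hN
    field_simp
    linear_combination -(e : ℂ) * c i * this
  have hzsq : ∀ q, ∑ ψ, (z q ψ) ^ 2 = 1 := by
    intro q
    have hreal : ∀ ψ, (N : ℂ) * (z q ψ : ℂ) =
        ∑ i, (conj (orbSum T (rep T q) (r i)) - e) * (conj (c i) * d i ψ) := fun ψ => by
      have h := congrArg conj (hz q ψ)
      simp only [map_mul, map_inv₀, map_natCast, map_intCast, map_sum, map_sub,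
        Complex.conj_conj] at h
      rw [← h, ← mul_assoc, mul_inv_cancel₀ hN0, one_mul]
    have h1 : (N : ℂ) * ∑ ψ, (z q ψ : ℂ) ^ 2 =
        ∑ i, (conj (orbSum T (rep T q) (r i)) - e) * conj (c i) * ∑ ψ, (z q ψ : ℂ) * d i ψ := by
      simp only [Finset.mul_sum]
      rw [Finset.sum_comm]
      refine Finset.sum_congr rfl fun ψ _ => ?_
      rw [pow_two, ← mul_assoc, hreal ψ, Finset.sum_mul]
      exact Finset.sum_congr rfl fun i _ => by ring
    have h2 : ∀ i, (conj (orbSum T (rep T q) (r i)) - e) * conj (c i) *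
        ∑ ψ, (z q ψ : ℂ) * d i ψ =
          conj (orbSum T (rep T q) (r i)) * orbSum T (rep T q) (r i) -
            (e : ℂ) * orbSum T (rep T q) (r i) := fun i => by
      have := hrow q i
      linear_combination (conj (orbSum T (rep T q) (r i)) - e) * conj (c i) * this +
        (conj (orbSum T (rep T q) (r i)) - e) * orbSum T (rep T q) (r i) * hone i
    rw [Finset.sum_congr rfl fun i _ => h2 i, Finset.sum_sub_distrib, ← Finset.mul_sum,
      hr.col_orth q q, if_pos rfl, hr.sum_orbSum (rep T q) (rep_ne_one T q)] at h1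
    have h3 : (N : ℂ) * ∑ ψ, (z q ψ : ℂ) ^ 2 = (N : ℂ) * 1 := by
      rw [h1]
      ring
    have h4 := mul_left_cancel₀ hN0 h3
    exact_mod_cast h4
  have hsingle : ∀ q, ∃ ψ₀, z q ψ₀ ≠ 0 ∧ ∀ ψ, ψ ≠ ψ₀ → z q ψ = 0 := by
    intro q
    obtain ⟨ψ₀, hψ₀⟩ : ∃ ψ₀, z q ψ₀ ≠ 0 := by
      by_contra h
      push Not at h
      have := hzsq q
      simp [h] at this
    refine ⟨ψ₀, hψ₀, fun ψ hψ => ?_⟩
    by_contra hne0
    have h := hzsq q
    rw [← Finset.add_sum_erase _ _ (Finset.mem_univ ψ₀)] at h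
    have hpos : 1 ≤ z q ψ₀ ^ 2 := by
      have := sq_pos_of_ne_zero hψ₀
      omega
    have hpos' : 1 ≤ ∑ x ∈ Finset.univ.erase ψ₀, z q x ^ 2 := by
      have h1 : 1 ≤ z q ψ ^ 2 := by
        have := sq_pos_of_ne_zero hne0
        omega
      exact h1.trans (Finset.single_le_sum (fun x _ => sq_nonneg (z q x))
        (Finset.mem_erase.2 ⟨hψ, Finset.mem_univ _⟩))
    omega
  choose π hπ0 hπ using hsingle
  have hval : ∀ q, (z q (π q) : ℂ) = -(δ₀ : ℂ) := fun q => by
    have h := hzsum q
    rw [Finset.sum_eq_single (π q) (fun ψ _ h => by rw [hπ q ψ h, Int.cast_zero])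
      (fun h => absurd (Finset.mem_univ _) h)] at h
    linear_combination (δ₀ : ℂ) * h - (z q (π q) : ℂ) * hδ
  have hd : ∀ i q, d i (π q) = -(δ₀ : ℂ) * c i * orbSum T (rep T q) (r i) := by
    intro i q
    have h := hrow q i
    rw [Finset.sum_eq_single (π q) (fun ψ _ h => by rw [hπ q ψ h, Int.cast_zero, zero_mul])
      (fun h => absurd (Finset.mem_univ _) h), hval q] at h
    linear_combination -(δ₀ : ℂ) * h - d i (π q) * hδ
  refine ⟨π, (Fintype.bijective_iff_injective_and_card π).2 ⟨fun q q' hqq => ?_,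
    hr.card_orb.trans hY.symm⟩, hd⟩
  by_contra hne'
  have heq : ∀ i, orbSum T (rep T q) (r i) = orbSum T (rep T q') (r i) := fun i => by
    have h1 := hd i q
    have h2 := hd i q'
    rw [hqq, h2] at h1
    linear_combination (δ₀ : ℂ) * conj (c i) * h1 -
      (orbSum T (rep T q) (r i) - orbSum T (rep T q') (r i)) * hone i -
      (orbSum T (rep T q) (r i) - orbSum T (rep T q') (r i)) * c i * conj (c i) * hδ
  have h1 := hr.col_orth q q
  have h2 := hr.col_orth q q'
  rw [Finset.sum_congr rfl fun i _ => by rw [← heq i], h1, if_pos rfl, if_neg hne'] at h2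
  exact hN0 (by linear_combination h2)

end CfsgLib.PerfIso
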