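import Cfsg.Agent.Lib.Blk83.FreeOrbit

/-!
Representatives of the orbits of a group of automorphisms acting freely on the non-identity
elements of a finite abelian group, and the sums of the orbit sums of linear characters over them.
-/

set_option autoImplicit false
open scoped ComplexConjugate

namespace CfsgLib.PerfIso

open CfsgLib.Blk83.FreeOrbit

variable {A : Type*} [CommGroup A] [Finite A] {T : Subgroup (MulAut A)}

/-- A family representing each orbit of `T` on the non-identity elements exactly once. -/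
structure OrbitReps (T : Subgroup (MulAut A)) {ι : Type*} (r : ι → A) : Prop where
  ne_one : ∀ i, r i ≠ 1
  surj : ∀ y : A, y ≠ 1 → ∃ i, ∃ a : T, (a : MulAut A) (r i) = y
  inj : ∀ i j (a : T), (a : MulAut A) (r i) = r j → i = j
  free : ∀ a : T, a ≠ 1 → ∀ y : A, (a : MulAut A) y = y → y = 1

namespace OrbitReps

variable {ι : Type*} {r : ι → A} (hr : OrbitReps T r)

include hr

omit [Finite A] in
theorem eq_one_of_fix (i : ι) (a : T) (h : (a : MulAut A) (r i) = r i) : a = 1 := by
  by_contra ha
  exact hr.ne_one i (hr.free a ha _ h)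

omit [Finite A] in
theorem inj' {i j : ι} {a b : T} (h : (a : MulAut A) (r i) = (b : MulAut A) (r j)) :
    i = j ∧ a = b := by
  have h1 : ((b⁻¹ * a : T) : MulAut A) (r i) = r j := by
    rw [Subgroup.coe_mul, MulAut.mul_apply, h, ← MulAut.mul_apply, ← Subgroup.coe_mul,
      inv_mul_cancel]
    rfl
  obtain rfl := hr.inj i j _ h1
  exact ⟨rfl, (inv_mul_eq_one.1 (hr.eq_one_of_fix i _ h1)).symm⟩

omit [Finite A] in
theorem bijective : Function.Bijective
    (fun x : ι × T => (⟨(x.2 : MulAut A) (r x.1), fun h => hr.ne_one x.1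
      ((MulEquiv.map_eq_one_iff _).1 h)⟩ : {y : A // y ≠ 1})) := by
  refine ⟨fun ⟨i, a⟩ ⟨j, b⟩ h => ?_, fun ⟨y, hy⟩ => ?_⟩
  · obtain ⟨rfl, rfl⟩ := hr.inj' (congrArg Subtype.val h)
    rfl
  · obtain ⟨i, a, h⟩ := hr.surj y hy
    exact ⟨(i, a), Subtype.ext h⟩

variable [Fintype T] [Fintype ι] [Fintype A]

omit [Finite A] in
theorem sum_invariant {F : A → ℂ} (hF : ∀ (a : T) (y : A), F ((a : MulAut A) y) = F y) :
    ∑ y : A, F y = F 1 + (Nat.card T : ℂ) * ∑ i, F (r i) := by
  classical
  rw [← Finset.add_sum_erase _ _ (Finset.mem_univ (1 : A)),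
    Finset.sum_subtype (p := fun y : A => y ≠ 1) _ (fun y => by simp) F,
    ← Fintype.sum_bijective _ hr.bijective (fun x : ι × T => F (r x.1)) _
      (fun x => (hF x.2 (r x.1)).symm), Fintype.sum_prod_type]
  simp [Finset.mul_sum, Nat.card_eq_fintype_card]

omit [Finite A] in
theorem card_eq : Nat.card A = 1 + Nat.card T * Fintype.card ι := by
  have h := hr.sum_invariant (F := fun _ => (1 : ℂ)) (fun _ _ => rfl)
  simp only [Finset.sum_const, Finset.card_univ, nsmul_eq_mul, mul_one] at h
  rw [Nat.card_eq_fintype_card (α := A)]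
  exact_mod_cast h

theorem card_orb [Fintype (Orb T)] : Fintype.card (Orb T) = Fintype.card ι := by
  have h := card_orb_mul T hr.free
  rw [hr.card_eq, Nat.card_eq_fintype_card (α := Orb T)] at h
  have hT : 0 < Nat.card T := Nat.card_pos
  refine Nat.eq_of_mul_eq_mul_left hT ?_
  rw [mul_comm]
  omega

omit hr in
omit [Finite A] [Fintype ι] [Fintype A] in
theorem orbSum_inv_aux (ψ : A →* ℂˣ) (a : T) (y : A) :
    orbSum T ψ ((a : MulAut A) y) = orbSum T ψ y := by
  unfold orbSum
  refine Fintype.sum_equiv (Equiv.mulRight a) _ _ fun b => ?_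
  simp [MulAut.mul_apply]

/-- The orbit sums add to `-1` over the representatives. -/
theorem sum_orbSum (ψ : A →* ℂˣ) (hψ : ψ ≠ 1) : ∑ i, orbSum T ψ (r i) = -1 := by
  classical
  have h := hr.sum_invariant (F := orbSum T ψ) (orbSum_inv_aux ψ)
  have h0 : ∑ y : A, orbSum T ψ y = 0 := by
    unfold orbSum
    rw [Finset.sum_comm]
    refine Finset.sum_eq_zero fun a _ => ?_
    rw [Fintype.sum_equiv (a : MulAut A).toEquiv (fun y => (ψ ((a : MulAut A) y) : ℂ))
      (fun y => (ψ y : ℂ)) fun y => rfl, sum_elem, if_neg hψ]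
  rw [h0, orbSum_apply_one] at h
  have hT : (Nat.card T : ℂ) ≠ 0 := Nat.cast_ne_zero.2 Nat.card_pos.ne'
  refine mul_left_cancel₀ hT ?_
  linear_combination -h

/-- Orthogonality of the orbit sums over the representatives. -/
theorem col_orth [Fintype (Orb T)] [DecidableEq (Orb T)] (q q' : Orb T) :
    ∑ i, conj (orbSum T (rep T q) (r i)) * orbSum T (rep T q') (r i) =
      (if q = q' then (Nat.card A : ℂ) else 0) - Nat.card T := by
  classical
  have hinv : ∀ (a : T) (y : A), conj (orbSum T (rep T q) ((a : MulAut A) y)) *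
      orbSum T (rep T q') ((a : MulAut A) y) =
        conj (orbSum T (rep T q) y) * orbSum T (rep T q') y := fun a y => by
    rw [orbSum_inv_aux, orbSum_inv_aux]
  have h := hr.sum_invariant (F := fun y => conj (orbSum T (rep T q) y) *
    orbSum T (rep T q') y) hinv
  have h0 : ∑ y : A, conj (orbSum T (rep T q) y) * orbSum T (rep T q') y =
      (Nat.card T : ℂ) * (if q = q' then (Nat.card A : ℂ) else 0) := by
    rw [Nat.card_eq_fintype_card (α := T)]
    have : ∀ a : T, ∑ y : A, conj (rep T q ((a : MulAut A) y) : ℂ) * orbSum T (rep T q') y =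
        if q = q' then (Nat.card A : ℂ) else 0 := fun a => by
      rw [← sum_conj_mul_orbSum T hr.free q q']
      refine Fintype.sum_equiv (a : MulAut A).toEquiv _ _ fun y => ?_
      show _ = conj (rep T q ((a : MulAut A) y) : ℂ) * orbSum T (rep T q') ((a : MulAut A) y)
      rw [orbSum_inv_aux]
    calc ∑ y : A, conj (orbSum T (rep T q) y) * orbSum T (rep T q') y
        = ∑ y : A, ∑ a : T, conj (rep T q ((a : MulAut A) y) : ℂ) * orbSum T (rep T q') y := by
          refine Finset.sum_congr rfl fun y _ => ?_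
          conv_lhs => arg 1; rw [orbSum, map_sum]
          rw [Finset.sum_mul]
      _ = _ := by
          rw [Finset.sum_comm, Finset.sum_congr rfl fun a _ => this a]
          simp [Finset.card_univ]
  rw [h0, orbSum_apply_one, orbSum_apply_one, map_natCast] at h
  have hT : (Nat.card T : ℂ) ≠ 0 := Nat.cast_ne_zero.2 Nat.card_pos.ne'
  refine mul_left_cancel₀ hT ?_
  linear_combination -h

/-- Orthogonality of the orbit sums over the orbits of characters. -/
theorem row_orth [Fintype (Orb T)] [DecidableEq ι] (i j : ι) :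
    ∑ q : Orb T, orbSum T (rep T q) (r i) * conj (orbSum T (rep T q) (r j)) =
      (if i = j then (Nat.card A : ℂ) else 0) - Nat.card T := by
  classical
  haveI := finite_dual (A := A)
  haveI := Fintype.ofFinite (A →* ℂˣ)
  set f : (A →* ℂˣ) → ℂ := fun ψ => (ψ (r i) : ℂ) * conj (orbSum T ψ (r j)) with hf
  have h1 : ∀ q : Orb T, orbSum T (rep T q) (r i) * conj (orbSum T (rep T q) (r j)) =
      ∑ a : T, f (act (rep T q) a) := fun q => by
    simp only [hf, orbSum_act, ← Finset.sum_mul]
    rfl
  rw [Finset.sum_congr rfl fun q _ => h1 q, sum_orb_act T hr.free f]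
  have h2 : f 1 = (Nat.card T : ℂ) := by
    simp [hf, orbSum, Nat.card_eq_fintype_card]
  have h3 : ∑ ψ, f ψ = if i = j then (Nat.card A : ℂ) else 0 := by
    simp only [hf, orbSum, map_sum, Finset.mul_sum]
    rw [Finset.sum_comm]
    simp only [mul_conj_apply, sum_dual]
    by_cases hij : i = j
    · subst hij
      rw [if_pos rfl, Finset.sum_eq_single (1 : T)]
      · rw [if_pos]
        simp
      · intro b _ hb
        rw [if_neg]
        intro h
        exact hb (hr.eq_one_of_fix i b (mul_inv_eq_one.1 h).symm)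
      · exact fun h => absurd (Finset.mem_univ _) h
    · rw [if_neg hij]
      refine Finset.sum_eq_zero fun b _ => ?_
      rw [if_neg]
      intro h
      exact hij (hr.inj j i b (mul_inv_eq_one.1 h).symm).symm
  rw [h2, h3]

/-- A function on the representatives orthogonal to all orbit sums and with total zero is zero. -/
theorem eq_zero_of_orth [Fintype (Orb T)] {f : ι → ℂ} (h0 : ∑ i, f i = 0)
    (hq : ∀ q : Orb T, ∑ i, orbSum T (rep T q) (r i) * f i = 0) (j : ι) : f j = 0 := by
  classical
  have h : ∑ q : Orb T, conj (orbSum T (rep T q) (r j)) *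
      ∑ i, orbSum T (rep T q) (r i) * f i = 0 :=
    Finset.sum_eq_zero fun q _ => by rw [hq, mul_zero]
  simp only [Finset.mul_sum] at h
  rw [Finset.sum_comm] at h
  have h1 : ∀ i, ∑ q : Orb T, conj (orbSum T (rep T q) (r j)) *
      (orbSum T (rep T q) (r i) * f i) =
        ((if i = j then (Nat.card A : ℂ) else 0) - Nat.card T) * f i := fun i => by
    rw [← hr.row_orth i j, Finset.sum_mul]
    exact Finset.sum_congr rfl fun q _ => by ring
  simp only [h1, sub_mul, Finset.sum_sub_distrib, ite_mul, zero_mul, Finset.sum_ite_eq',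
    Finset.mem_univ, if_true, ← Finset.mul_sum, h0, mul_zero, sub_zero] at h
  exact (mul_eq_zero.1 h).resolve_left (Nat.cast_ne_zero.2 Nat.card_pos.ne')

end OrbitReps

end CfsgLib.PerfIso
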