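import Cfsg.Agent.Lib.BlockRank.Watanabe.Sections
import Cfsg.Agent.Lib.BlockRank.FreeSections
import Cfsg.Agent.Lib.PerfIso.OrbitData

/-!
The non-trivial subsections of a block with abelian defect group and free inertial action, indexed
by representatives of the classes of the group.
-/

set_option autoImplicit false
set_option maxHeartbeats 1600000
set_option synthInstance.maxHeartbeats 400000

open Cfsg CfsgLib.Blocks CfsgLib.Blocks.Pairs CfsgLib.BlockRank
open CfsgLib.BlockRank.Watanabe (SecIdx)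
open scoped Classical IsMulCommutative

namespace CfsgLib.PerfIso

universe u

variable {G : Type u} [Group G] [Finite G] {p : ℕ} [Fact p.Prime] {M : Ideal AlgInt} [M.IsMaximal]

/-- The automorphisms of `P` induced by the inertial group of `(P, e)`. -/
noncomputable def autP (P : Subgroup G) (e : MonoidAlgebra (ResField M) G) :
    Subgroup (MulAut P) :=
  (P.normalizerMonoidHom.comp
    (Subgroup.inclusion (fun _ hg => hg.1 : pairStab P e ≤ Subgroup.normalizer (P : Set G)))).range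

theorem mem_autP_iff {P : Subgroup G} {e : MonoidAlgebra (ResField M) G} (a : MulAut P) :
    a ∈ autP P e ↔ ∃ y ∈ pairStab P e, ∀ w : P, (a w : G) = y * w * y⁻¹ := by
  constructor
  · rintro ⟨y, rfl⟩
    exact ⟨y, y.2, fun w => rfl⟩
  · rintro ⟨y, hy, h⟩
    exact ⟨⟨y, hy⟩, MulEquiv.ext fun w => Subtype.ext (h w).symm⟩

theorem card_autP (P : Subgroup G) (e : MonoidAlgebra (ResField M) G) :
    Nat.card (autP P e) = (Subgroup.centralizer (P : Set G)).relIndex (pairStab P e) := by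
  rw [autP, ← Subgroup.index_ker, ← MonoidHom.comap_ker, Subgroup.normalizerMonoidHom_ker,
    Subgroup.relIndex]
  rfl

theorem autP_free {P : Subgroup G} {e : MonoidAlgebra (ResField M) G}
    (hfree : Free P (pairStab P e)) (a : autP P e) (ha : a ≠ 1) (y : P)
    (hy : (a : MulAut P) y = y) : y = 1 := by
  by_contra hy1
  obtain ⟨g, hg, hga⟩ := (mem_autP_iff a.1).1 a.2
  have h := hga y
  rw [hy] at h
  have hC := hfree g hg y y.2 (fun h' => hy1 (Subtype.ext h')) h.symm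
  refine ha (Subtype.ext (MulEquiv.ext fun w => Subtype.ext ?_))
  rw [hga w]
  show g * (w : G) * g⁻¹ = (w : G)
  rw [← Subgroup.mem_centralizer_iff.1 hC w w.2, mul_inv_cancel_right]

/-- The non-trivial subsections, indexed by `ι`. -/
structure LocalSections (p : ℕ) (M : Ideal AlgInt) [M.IsMaximal] (B : Set (IrrCharacter G))
    (P : Subgroup G) [IsMulCommutative P] (e : MonoidAlgebra (ResField M) G) (ι : Type u) where
  X : Finset G
  x : ι → G
  b : ∀ i, Set (IrrCharacter (Subgroup.centralizer ({x i} : Set G)))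
  r : ι → P
  pelem : ∀ x ∈ X, ∃ k : ℕ, orderOf x = p ^ k
  rep : ∀ g : G, (∃ k : ℕ, orderOf g = p ^ k) → ∃! x, x ∈ X ∧ IsConj g x
  mem_X : ∀ i, x i ∈ X
  x_ne_one : ∀ i, x i ≠ 1
  induced : ∀ i, IsInducedBlock M (Subgroup.centralizer ({x i} : Set G)) (b i) B
  major : ∀ i, blockDefect p (b i) = blockDefect p B
  rankOne : ∀ i, blockRank p (b i) = 1
  idx_injective : Function.Injective fun i => (⟨x i, b i⟩ : SecIdx G)
  complete : ∀ y ∈ X, y ≠ 1 → ∀ b' : Set (IrrCharacter (Subgroup.centralizer ({y} : Set G))),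
    IsInducedBlock M (Subgroup.centralizer ({y} : Set G)) b' B →
      ∃ i, (⟨x i, b i⟩ : SecIdx G) = ⟨y, b'⟩
  link : ∀ i, ∃ g : G, (r i : G) = g * x i * g⁻¹ ∧ ∃ hb : IsPBlock M (b i),
    SLE p (Subgroup.zpowers (r i : G)) (conjA g (eIn hb)) P e
  reps : OrbitReps (autP P e) r

variable [CharP (ResField M) p]

/-- Subsections exist. -/
theorem exists_localSections (hM : IsPModular p M) {B : Set (IrrCharacter G)}
    (hB : IsPBlock M B) {P : Subgroup G} [IsMulCommutative P]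
    {e : MonoidAlgebra (ResField M) G} (hP : PairOf p (ebar hB) P e) (hno : NoExt p P e)
    (hfree : Free P (pairStab P e)) :
    ∃ (ι : Type u) (_ : Fintype ι), Nonempty (LocalSections p M B P e ι) := by
  have hab : ∀ x ∈ P, ∀ y ∈ P, x * y = y * x := fun x hx y hy =>
    congrArg Subtype.val (mul_comm (⟨x, hx⟩ : P) ⟨y, hy⟩)
  haveI := Fintype.ofFinite G
  have hp : p.Prime := Fact.out
  have hpP := hP.pair.pgroup
  have hmaxR := maxR_of_noExt hP hno
  have hD : IsDefectGroup p M B P := (isDefectGroup_iff_maxR hM hB).2 hmaxR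
  have hcardP : Nat.card P = p ^ blockDefect p B := card_defectGroup hM hB hD
  let X : Finset G := (Finset.univ.image fun g : G => Quotient.out (ConjClasses.mk g)).filter
    fun x => ∃ k : ℕ, orderOf x = p ^ k
  have hout : ∀ g : G, IsConj g (Quotient.out (ConjClasses.mk g)) := fun g =>
    (ConjClasses.mk_eq_mk_iff_isConj.1 (Quotient.out_eq (ConjClasses.mk g))).symm
  have hX : ∀ x ∈ X, ∃ k : ℕ, orderOf x = p ^ k := fun x hx => (Finset.mem_filter.1 hx).2
  have hXrep : ∀ g : G, (∃ k : ℕ, orderOf g = p ^ k) → ∃! x, x ∈ X ∧ IsConj g x := by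
    intro g ⟨k, hk⟩
    refine ⟨Quotient.out (ConjClasses.mk g), ⟨Finset.mem_filter.2
      ⟨Finset.mem_image.2 ⟨g, Finset.mem_univ _, rfl⟩, k, ?_⟩, hout g⟩, ?_⟩
    · obtain ⟨c, hc⟩ := isConj_iff.1 (hout g)
      rw [← hc, ← hk]
      exact MulEquiv.orderOf_eq (MulAut.conj c) g
    · rintro y ⟨hy, hgy⟩
      obtain ⟨g', -, rfl⟩ := Finset.mem_image.1 (Finset.mem_filter.1 hy).1
      rw [show ConjClasses.mk g = ConjClasses.mk g' from
        ConjClasses.mk_eq_mk_iff_isConj.2 (hgy.trans (hout g').symm)]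
  let S := fun x : G => {b : Set (IrrCharacter (Subgroup.centralizer ({x} : Set G))) |
    IsInducedBlock M (Subgroup.centralizer ({x} : Set G)) b B}
  let T : Finset (SecIdx G) := X.sigma fun x => (S x).toFinset
  have hmem : ∀ s, s ∈ T ↔ s.1 ∈ X ∧
      IsInducedBlock M (Subgroup.centralizer ({s.1} : Set G)) s.2 B := fun s => by
    simp [T, S, Finset.mem_sigma]
  have hex : ∀ s, ∃ g : G, s ∈ T → ∃ hb : IsPBlock M s.2, g * s.1 * g⁻¹ ∈ P ∧
      SLE p (Subgroup.zpowers (g * s.1 * g⁻¹)) (conjA g (eIn hb)) P e := by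
    intro s
    by_cases hs : s ∈ T
    · obtain ⟨hsX, hsI⟩ := (hmem s).1 hs
      have hz := isPGroup_zpowers (hX _ hsX)
      have hpair := (isInducedBlock_singleton_iff hM hz hB hsI.1).1 hsI
      obtain ⟨g, hg⟩ := exists_conj_sle hP hno hpair
      rw [conjSub_zpowers] at hg
      exact ⟨g, fun _ => ⟨hsI.1, hg.le (Subgroup.mem_zpowers _), hg⟩⟩
    · exact ⟨1, fun h => absurd h hs⟩
  choose gg hgg using hex
  have hsurj : ∀ u ∈ P, ∃ s ∈ T, ∃ y ∈ pairStab P e,
      y * (gg s * s.1 * (gg s)⁻¹) * y⁻¹ = u := by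
    intro u hu
    have huz : Subgroup.zpowers u ≤ P := Subgroup.zpowers_le.2 hu
    obtain ⟨f, hf⟩ := (existsUnique_sle hP.pair huz).1
    have hu' : ∃ k : ℕ, orderOf u = p ^ k := by
      obtain ⟨k, hk⟩ := IsPGroup.iff_orderOf.1 hpP ⟨u, hu⟩
      exact ⟨k, by rw [← hk, Subgroup.orderOf_mk]⟩
    obtain ⟨x, ⟨hxX, hux⟩, -⟩ := hXrep u hu'
    obtain ⟨h, rfl⟩ := isConj_iff.1 hux
    have hfB := (SLE.pairOf_iff hf).1 hP
    have hfB' := hfB.conj h
    rw [conjSub_zpowers] at hfB'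
    have hC : Subgroup.centralizer (Subgroup.zpowers (h * u * h⁻¹) : Set G) =
        Subgroup.centralizer ({h * u * h⁻¹} : Set G) := by
      rw [Subgroup.zpowers_eq_closure, Subgroup.centralizer_closure]
    obtain ⟨b, hb, hbe⟩ := exists_eIn_eq (hC ▸ hfB'.pair.block)
    have hs : (⟨h * u * h⁻¹, b⟩ : SecIdx G) ∈ T := by
      rw [hmem]
      exact ⟨hxX, (isInducedBlock_singleton_iff hM hfB'.pair.pgroup hB hb).2 (hbe ▸ hfB')⟩
    refine ⟨_, hs, ?_⟩
    obtain ⟨_, _, h2⟩ := hgg _ hs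
    rw [hbe, conjA_conjA] at h2
    have hgu : gg ⟨h * u * h⁻¹, b⟩ * (h * u * h⁻¹) * (gg ⟨h * u * h⁻¹, b⟩)⁻¹ =
        gg ⟨h * u * h⁻¹, b⟩ * h * u * (gg ⟨h * u * h⁻¹, b⟩ * h)⁻¹ := by group
    rw [hgu] at h2
    obtain ⟨y, hy, hyu⟩ := exists_stab_of_fusion hP hno hab hf h2
    refine ⟨y⁻¹, inv_mem hy, ?_⟩
    dsimp only
    rw [hgu, ← hyu]
    group
  have hinj : ∀ s₁ ∈ T, ∀ s₂ ∈ T, ∀ y ∈ pairStab P e,
      y * (gg s₁ * s₁.1 * (gg s₁)⁻¹) * y⁻¹ = gg s₂ * s₂.1 * (gg s₂)⁻¹ → s₁ = s₂ := by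
    rintro ⟨x₁, b₁⟩ h₁ ⟨x₂, b₂⟩ h₂ y hy heq
    dsimp only at heq
    obtain ⟨hb₁, -, hl1⟩ := hgg _ h₁
    obtain ⟨hb₂, -, hl2⟩ := hgg _ h₂
    set g₁ := gg ⟨x₁, b₁⟩
    set g₂ := gg ⟨x₂, b₂⟩
    have heq' : y * g₁ * x₁ * (y * g₁)⁻¹ = g₂ * x₂ * g₂⁻¹ := by rw [← heq]; group
    have hx : x₁ = x₂ := by
      refine (hXrep x₁ (hX _ ((hmem _).1 h₁).1)).unique ⟨((hmem _).1 h₁).1, IsConj.refl _⟩
        ⟨((hmem _).1 h₂).1, isConj_iff.2 ⟨g₂⁻¹ * (y * g₁), ?_⟩⟩
      calc _ = g₂⁻¹ * (y * g₁ * x₁ * (y * g₁)⁻¹) * g₂ := by group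
        _ = x₂ := by rw [heq']; group
    subst hx
    have hl1' := hl1.conj y
    rw [conjSub_zpowers, conjA_conjA, conjSub_eq_of_mem_normalizer hy.1, hy.2,
      show y * (g₁ * x₁ * g₁⁻¹) * y⁻¹ = y * g₁ * x₁ * (y * g₁)⁻¹ by group, heq'] at hl1'
    have h3 := SLE.unique hP.pair hl1' hl2
    have h4 : conjA (g₂⁻¹ * (y * g₁)) (eIn hb₁) = eIn hb₂ := by
      rw [← conjA_conjA, h3, conjA_inv_conjA]
    have hc : g₂⁻¹ * (y * g₁) ∈ Subgroup.centralizer ({x₁} : Set G) := by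
      rw [Subgroup.mem_centralizer_singleton_iff]
      calc _ = g₂⁻¹ * (y * g₁ * x₁ * (y * g₁)⁻¹) * (y * g₁) := by group
        _ = _ := by rw [heq']; group
    rw [conjFixed_iff.mp (isBlockIdem_eIn hb₁).mem.fixed _ hc] at h4
    obtain rfl : b₁ = b₂ := eIn_injective hb₁ hb₂ h4
    rfl
  have hloc : ∀ s ∈ T, blockDefect p s.2 = blockDefect p B ∧
      ((∀ y ∈ pairStab P e, y * (gg s * s.1 * (gg s)⁻¹) * y⁻¹ = gg s * s.1 * (gg s)⁻¹ →
        y ∈ Subgroup.centralizer (P : Set G)) → blockRank p s.2 = 1) := by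
    intro s hs
    obtain ⟨hsX, hsI⟩ := (hmem s).1 hs
    obtain ⟨_, hgP, hgle⟩ := hgg s hs
    set H := Subgroup.centralizer ({s.1} : Set G) with hH
    have hH' : H = Subgroup.centralizer (Subgroup.zpowers s.1 : Set G) := by
      rw [hH, Subgroup.zpowers_eq_closure, Subgroup.centralizer_closure]
    obtain ⟨x, hx⟩ : ∃ x, x = (gg s)⁻¹ := ⟨_, rfl⟩
    have hle' : SLE p (Subgroup.zpowers s.1) (eIn hsI.1) (conjSub x P) (conjA x e) := by
      have := hgle.conj x
      rw [← conjSub_zpowers, conjSub_conjSub, hx, inv_mul_cancel, conjSub_one,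
        conjA_inv_conjA] at this
      exact hx ▸ this
    have hP₁ : PairOf p (ebar hB) (conjSub x P) (conjA x e) := hP.conj x
    have hno₁ : NoExt p (conjSub x P) (conjA x e) :=
      (hmaxR.conj (isBlockIdem_ebar hB).mem x).noExt hP₁
    have hab₁ : ∀ a ∈ conjSub x P, ∀ b ∈ conjSub x P, a * b = b * a := by
      rintro _ ⟨a, ha, rfl⟩ _ ⟨b, hb, rfl⟩
      rw [← map_mul, hab a ha b hb, map_mul]
    obtain ⟨hP', hno', hst⟩ := local_pair hH' hP₁ hno₁ hab₁ hle'
    have hdown : down H (eIn hsI.1) = ebar hsI.1 := by rw [eIn, down_up]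
    rw [hdown] at hP'
    refine ⟨Nat.pow_right_injective hp.two_le ?_, fun hfree => ?_⟩
    · show p ^ Cfsg.blockDefect p s.2 = p ^ Cfsg.blockDefect p B
      rw [← card_defectGroup hM hsI.1
        ((isDefectGroup_iff_maxR hM hsI.1).2 (maxR_of_noExt hP' hno')), ← hcardP,
        ← card_map_conj x P]
      refine Nat.card_congr (Subgroup.subgroupOfEquivOfLe ?_).toEquiv
      intro a ha
      show a ∈ Subgroup.centralizer ({s.1} : Set G)
      rw [Subgroup.mem_centralizer_singleton_iff]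
      exact hab₁ a ha s.1 (hle'.le (Subgroup.mem_zpowers _))
    have habH : ∀ a ∈ (conjSub x P).subgroupOf H, ∀ b ∈ (conjSub x P).subgroupOf H,
        a * b = b * a := fun a ha b hb => Subtype.ext (hab₁ _ ha _ hb)
    have htrivH : pairStab ((conjSub x P).subgroupOf H) (down H (conjA x e)) ≤
        Subgroup.centralizer ((conjSub x P).subgroupOf H : Set H) := by
      intro y hy
      have h1 := hst y hy
      rw [← conjSub_pairStab] at h1
      obtain ⟨z, hz, hzy⟩ := h1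
      have hzy' : x * z * x⁻¹ = (y : G) := hzy
      have hys : (y : G) * s.1 = s.1 * y := Subgroup.mem_centralizer_singleton_iff.1 y.2
      have hzφ : z * (gg s * s.1 * (gg s)⁻¹) * z⁻¹ = gg s * s.1 * (gg s)⁻¹ := by
        have hz' : z = gg s * (y : G) * (gg s)⁻¹ := by rw [← hzy', hx]; group
        calc _ = gg s * ((y : G) * s.1 * (y : G)⁻¹) * (gg s)⁻¹ := by rw [hz']; group
          _ = _ := by rw [hys]; group
      refine Subgroup.mem_centralizer_iff.2 fun a ha => Subtype.ext ?_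
      obtain ⟨w, hw, hwa⟩ := (ha : (a : G) ∈ conjSub x P)
      show (a : G) * (y : G) = y * a
      rw [← hzy, show (a : G) = _ from hwa.symm, ← map_mul,
        Subgroup.mem_centralizer_iff.1 (hfree z hz hzφ) w hw, map_mul]
    exact (rankOne_of_trivial_inertial hM hsI.1 hP' hno' habH htrivH).1
  have hne : ∀ s : SecIdx G, s.1 ≠ 1 → gg s * s.1 * (gg s)⁻¹ ≠ 1 := fun s h h' =>
    h (by
      calc s.1 = (gg s)⁻¹ * (gg s * s.1 * (gg s)⁻¹) * gg s := by group
        _ = 1 := by rw [h']; group)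
  refine ⟨{s : SecIdx G // s ∈ T ∧ s.1 ≠ 1}, Fintype.ofFinite _, ⟨
    { X := X
      x := fun i => i.1.1
      b := fun i => i.1.2
      r := fun i => ⟨gg i.1 * i.1.1 * (gg i.1)⁻¹, (hgg i.1 i.2.1).2.1⟩
      pelem := hX
      rep := hXrep
      mem_X := fun i => ((hmem i.1).1 i.2.1).1
      x_ne_one := fun i => i.2.2
      induced := fun i => ((hmem i.1).1 i.2.1).2
      major := fun i => (hloc i.1 i.2.1).1
      rankOne := fun i => (hloc i.1 i.2.1).2 fun y hy h =>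
        hfree y hy _ (hgg i.1 i.2.1).2.1 (hne i.1 i.2.2) h
      idx_injective := fun i j h => Subtype.ext h
      complete := fun y hy hy1 b' hb' => ⟨⟨⟨y, b'⟩, (hmem _).2 ⟨hy, hb'⟩, hy1⟩, rfl⟩
      link := fun i => ⟨gg i.1, rfl, (hgg i.1 i.2.1).1, (hgg i.1 i.2.1).2.2⟩
      reps := ?_ }⟩⟩
  refine
    { ne_one := fun i h => hne i.1 i.2.2 (congrArg Subtype.val h)
      surj := fun w hw => ?_
      inj := fun i j a h => ?_
      free := autP_free hfree }
  · obtain ⟨s, hs, y, hy, hyw⟩ := hsurj w w.2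
    have hs1 : s.1 ≠ 1 := fun h => hw (Subtype.ext (by rw [← hyw, h]; simp))
    obtain ⟨a, ha⟩ : ∃ a : autP P e, ∀ v : P, ((a : MulAut P) v : G) = y * v * y⁻¹ :=
      ⟨⟨P.normalizerMonoidHom ⟨y, hy.1⟩, (mem_autP_iff _).2 ⟨y, hy, fun _ => rfl⟩⟩, fun _ => rfl⟩
    exact ⟨⟨s, hs, hs1⟩, a, Subtype.ext (by rw [ha]; exact hyw)⟩
  · obtain ⟨y, hy, hya⟩ := (mem_autP_iff a.1).1 a.2
    refine Subtype.ext (hinj _ i.2.1 _ j.2.1 y hy ?_)
    have := congrArg (Subtype.val) h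
    rwa [hya] at this

end CfsgLib.PerfIso
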