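import Cfsg.Agent.Lib.PerfIso.Column
import Cfsg.Agent.Lib.PerfIso.Sections
import Cfsg.Agent.Lib.PerfIso.Match

/-!
The generalized decomposition numbers of a block with abelian defect group, free inertial action
and the regular relation between its characters.
-/

set_option autoImplicit false
set_option maxHeartbeats 800000
set_option synthInstance.maxHeartbeats 400000

open Cfsg CfsgLib.Blk83.FreeOrbit
open CfsgLib.BlockRank.Watanabe (SecIdx)
open scoped ComplexConjugate IsMulCommutative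

namespace CfsgLib.PerfIso

universe u

variable {G : Type u} [Group G] [Finite G] {p : ℕ} {M : Ideal Cfsg.AlgInt}

/-- The characters of a block split into non-exceptional and exceptional ones, with the relation
between them on regular elements. -/
structure RegularData (p : ℕ) (B : Set (Cfsg.IrrCharacter G)) (X Y : Finset (Cfsg.IrrCharacter G))
    (δ : Cfsg.IrrCharacter G → ℤ) (δ₀ : ℤ) : Prop where
  mem : ∀ χ, χ ∈ B ↔ χ ∈ X ∨ χ ∈ Y
  disj : Disjoint X Y
  sign : ∀ χ ∈ X, δ χ = 1 ∨ δ χ = -1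
  sign₀ : δ₀ = 1 ∨ δ₀ = -1
  rank : Cfsg.blockRank p B = X.card
  relation : ∀ ψ ∈ Y, ∀ g : G, Cfsg.IsPRegular p g →
    (δ₀ : ℂ) * (ψ : G → ℂ) g + ∑ χ ∈ X, (δ χ : ℂ) * (χ : G → ℂ) g = 0

namespace RegularData

variable {B : Set (Cfsg.IrrCharacter G)} {X Y : Finset (Cfsg.IrrCharacter G)}
  {δ : Cfsg.IrrCharacter G → ℤ} {δ₀ : ℤ} (R : RegularData p B X Y δ δ₀)

include R

omit [Finite G] in
theorem sum_split (F : Cfsg.IrrCharacter G → ℂ) :
    ∑ᶠ χ ∈ B, F χ = ∑ χ ∈ X, F χ + ∑ χ ∈ Y, F χ := by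
  classical
  rw [← Finset.sum_union R.disj, ← finsum_mem_coe_finset]
  refine finsum_mem_congr (Set.ext fun χ => ?_) fun _ _ => rfl
  simp [R.mem]

omit [Finite G] in
theorem sq_eq_one {χ : Cfsg.IrrCharacter G} (hχ : χ ∈ X) : (δ χ : ℂ) * δ χ = 1 := by
  rcases R.sign χ hχ with h | h <;> simp [h]

omit [Finite G] in
theorem sq₀_eq_one : (δ₀ : ℂ) * δ₀ = 1 := by
  rcases R.sign₀ with h | h <;> simp [h]

omit [Finite G] in
/-- On regular elements an exceptional character is determined by the others. -/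
theorem apply_Y {ψ : Cfsg.IrrCharacter G} (hψ : ψ ∈ Y) {g : G} (hg : Cfsg.IsPRegular p g) :
    (ψ : G → ℂ) g = -(δ₀ : ℂ) * ∑ χ ∈ X, (δ χ : ℂ) * (χ : G → ℂ) g := by
  linear_combination (δ₀ : ℂ) * R.relation ψ hψ g hg - (ψ : G → ℂ) g * R.sq₀_eq_one

/-- The non-exceptional characters are independent on regular elements. -/
theorem indep (a : Cfsg.IrrCharacter G → ℂ)
    (h : ∀ g : G, Cfsg.IsPRegular p g → ∑ χ ∈ X, a χ * (χ : G → ℂ) g = 0) : ∀ χ ∈ X, a χ = 0 := by
  classical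
  let f : Cfsg.IrrCharacter G → G → ℂ := fun χ => Cfsg.pRegularPart p (χ : G → ℂ)
  have hspan : Submodule.span ℂ (Set.range fun χ : X => f χ) = Submodule.span ℂ (f '' B) := by
    refine le_antisymm (Submodule.span_mono ?_) (Submodule.span_le.2 ?_)
    · rintro _ ⟨χ, rfl⟩
      exact ⟨χ, (R.mem _).2 (Or.inl χ.2), rfl⟩
    · rintro _ ⟨ψ, hψ, rfl⟩
      rcases (R.mem ψ).1 hψ with hX | hY
      · exact Submodule.subset_span ⟨⟨ψ, hX⟩, rfl⟩
      · have hf : f ψ = ∑ χ : X, (-(δ₀ : ℂ) * δ χ) • f χ := by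
          funext g
          simp only [f, CfsgLib.BlockRank.pRegularPart_apply, Finset.sum_apply, Pi.smul_apply,
            smul_eq_mul]
          by_cases hg : Cfsg.IsPRegular p g
          · simp only [if_pos hg]
            rw [R.apply_Y hY hg, Finset.mul_sum, ← Finset.sum_coe_sort]
            exact Finset.sum_congr rfl fun χ _ => by ring
          · simp [if_neg hg]
        rw [hf]
        exact Submodule.sum_mem _ fun χ _ =>
          Submodule.smul_mem _ _ (Submodule.subset_span ⟨χ, rfl⟩)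
  have hli : LinearIndependent ℂ fun χ : X => f χ := by
    rw [linearIndependent_iff_card_eq_finrank_span, Set.finrank, hspan, Fintype.card_coe,
      ← R.rank]
    rfl
  have h0 : ∑ χ : X, a χ • f χ = 0 := by
    funext g
    simp only [f, CfsgLib.BlockRank.pRegularPart_apply, Finset.sum_apply, Pi.smul_apply,
      smul_eq_mul, Pi.zero_apply]
    by_cases hg : Cfsg.IsPRegular p g
    · simp only [if_pos hg]
      rw [Finset.sum_coe_sort X fun χ => a χ * (χ : G → ℂ) g]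
      exact h g hg
    · simp [if_neg hg]
  intro χ hχ
  exact Fintype.linearIndependent_iff.1 hli (fun χ : X => a χ) h0 ⟨χ, hχ⟩

end RegularData

variable [Fact p.Prime] [M.IsMaximal] {P : Subgroup G} [IsMulCommutative P]
  {e : MonoidAlgebra (CfsgLib.Blocks.ResField M) G} {ι : Type u}

/-- The integrality coming from the star construction. -/
def StarInt {B : Set (Cfsg.IrrCharacter G)} (S : LocalSections p M B P e ι) [Fintype ι]
    [Fintype (autP P e)] (col : ι → Cfsg.IrrCharacter G → ℂ) : Prop :=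
  ∀ (q : Orb (autP P e)), ∀ χ ∈ B, ∀ ψ ∈ B, ∃ z : ℤ, (Nat.card P : ℂ)⁻¹ *
    ∑ i, (orbSum (autP P e) (rep (autP P e) q) (S.r i) - Nat.card (autP P e)) *
      (col i χ * conj (col i ψ)) = z

/-- Columns at different subsections are orthogonal. -/
theorem orth_of_idx_ne (hM : Cfsg.IsPModular p M) {B : Set (Cfsg.IrrCharacter G)} {s t : SecIdx G}
    {col col' : Cfsg.IrrCharacter G → ℂ} {φ : Subgroup.centralizer ({s.1} : Set G) → ℂ}
    {φ' : Subgroup.centralizer ({t.1} : Set G) → ℂ} (h : IsColumn p M B s.1 s.2 col φ)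
    (h' : IsColumn p M B t.1 t.2 col' φ') (hs : ∃ k : ℕ, orderOf s.1 = p ^ k)
    (ht : ∃ k : ℕ, orderOf t.1 = p ^ k)
    (hind : Cfsg.IsInducedBlock M (Subgroup.centralizer ({s.1} : Set G)) s.2 B)
    (hind' : Cfsg.IsInducedBlock M (Subgroup.centralizer ({t.1} : Set G)) t.2 B)
    (hne : s ≠ t) (hsep : IsConj s.1 t.1 → s.1 = t.1) :
    ∑ᶠ χ ∈ B, col χ * conj (col' χ) = 0 := by
  obtain ⟨x, b⟩ := s
  obtain ⟨x', b'⟩ := t
  by_cases hx : x = x'
  · subst hx
    exact h.orth_of_ne hM hs hind h' hind' fun hb => hne (Sigma.ext rfl (heq_of_eq hb))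
  · exact h.orth_of_not_isConj hM hs hind h' ht hind' fun hc => hx (hsep hc)

variable [CharP (CfsgLib.Blocks.ResField M) p]

/-- The values of the columns. -/
theorem exists_coherent (hM : Cfsg.IsPModular p M) {B : Set (Cfsg.IrrCharacter G)}
    (hB : Cfsg.IsPBlock M B) (hPB : Cfsg.IsDefectGroup p M B P) [Fintype ι]
    [Fintype (autP P e)] [Fintype (Orb (autP P e))] (S : LocalSections p M B P e ι)
    {col : ι → Cfsg.IrrCharacter G → ℂ}
    {φ : ∀ i, Subgroup.centralizer ({S.x i} : Set G) → ℂ}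
    (hcol : ∀ i, IsColumn p M B (S.x i) (S.b i) (col i) (φ i))
    {X Y : Finset (Cfsg.IrrCharacter G)} {δ : Cfsg.IrrCharacter G → ℤ} {δ₀ : ℤ}
    (R : RegularData p B X Y δ δ₀) (hX : X.card = Nat.card (autP P e))
    (hY : Y.card = Fintype.card ι) (hint : StarInt S col) :
    ∃ (c : ι → ℂ) (π : Orb (autP P e) → Cfsg.IrrCharacter G),
      Function.Injective π ∧ (∀ q, π q ∈ Y) ∧ (∀ ψ ∈ Y, ∃ q, π q = ψ) ∧
      (∀ i, IsIntegral ℤ (c i)) ∧ (∀ i, ∀ χ ∈ X, col i χ = (δ χ : ℂ) * c i) ∧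
      (∀ i q, col i (π q) =
        -(δ₀ : ℂ) * c i * orbSum (autP P e) (rep (autP P e) q) (S.r i)) := by
  classical
  obtain ⟨c, hc⟩ : ∃ c : ι → ℂ, ∀ i, c i = (δ₀ : ℂ) * ∑ ψ ∈ Y, col i ψ := ⟨_, fun _ => rfl⟩
  have hcX : ∀ i, ∀ χ ∈ X, col i χ = (δ χ : ℂ) * c i := by
    intro i
    have h := R.indep (fun χ => conj (col i χ) - (δ₀ : ℂ) * δ χ * ∑ ψ ∈ Y, conj (col i ψ)) ?_
    · intro χ hχ
      have h1 := congrArg conj (sub_eq_zero.1 (h χ hχ))
      simp only [map_mul, map_sum, map_intCast, Complex.conj_conj] at h1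
      rw [h1, hc]
      ring
    intro g hg
    have h1 := (hcol i).orth_regular hM hB (S.induced i).1 (S.pelem _ (S.mem_X i))
      (S.x_ne_one i) hg
    have hY' : ∑ ψ ∈ Y, (ψ : G → ℂ) g * conj (col i ψ) =
        -∑ χ ∈ X, ((δ₀ : ℂ) * δ χ * ∑ ψ ∈ Y, conj (col i ψ)) * (χ : G → ℂ) g := by
      rw [Finset.sum_congr rfl fun ψ hψ => by rw [R.apply_Y hψ hg]]
      simp only [Finset.mul_sum, Finset.sum_mul, ← Finset.sum_neg_distrib]
      rw [Finset.sum_comm]
      exact Finset.sum_congr rfl fun χ _ => Finset.sum_congr rfl fun ψ _ => by ring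
    rw [R.sum_split, hY', ← sub_eq_add_neg] at h1
    rw [← h1]
    simp only [sub_mul, Finset.sum_sub_distrib]
    exact congrArg (· - _) (Finset.sum_congr rfl fun χ _ => mul_comm _ _)
  obtain ⟨j₁, hj₁⟩ : X.Nonempty := Finset.card_pos.1 (hX ▸ Nat.card_pos)
  have hne : ∀ i, c i ≠ 0 := fun i h0 =>
    (hcol i).ne_zero hM (S.pelem _ (S.mem_X i)) (S.induced i) (S.major i)
      ((R.mem j₁).2 (Or.inl hj₁)) (by rw [hcX i j₁ hj₁, h0, mul_zero])
  have hcard : Nat.card P = p ^ Cfsg.blockDefect p B :=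
    CfsgLib.Blocks.card_defectGroup hM hB hPB
  have hfull : ∀ i k, ∑ᶠ χ ∈ B, col i χ * conj (col k χ) =
      if i = k then (Nat.card P : ℂ) else 0 := by
    intro i k
    by_cases hik : i = k
    · subst hik
      rw [if_pos rfl, (hcol i).norm, hcard]
    · rw [if_neg hik]
      refine orth_of_idx_ne hM (s := ⟨S.x i, S.b i⟩) (t := ⟨S.x k, S.b k⟩) (hcol i) (hcol k)
        (S.pelem _ (S.mem_X i)) (S.pelem _ (S.mem_X k)) (S.induced i) (S.induced k)
        (fun h => hik (S.idx_injective h)) fun h => ?_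
      exact (S.rep (S.x i) (S.pelem _ (S.mem_X i))).unique ⟨S.mem_X i, IsConj.refl _⟩
        ⟨S.mem_X k, h⟩
  have horth : ∀ i k, (Fintype.card X : ℂ) * (c i * conj (c k)) +
      ∑ ψ : Y, col i ψ * conj (col k ψ) =
        @ite ℂ (i = k) (Classical.propDecidable _) (Nat.card P : ℂ) 0 := by
    intro i k
    rw [show @ite ℂ (i = k) (Classical.propDecidable _) (Nat.card P : ℂ) 0 =
      ∑ᶠ χ ∈ B, col i χ * conj (col k χ) by rw [hfull i k], R.sum_split,
      Finset.sum_coe_sort Y fun ψ => col i ψ * conj (col k ψ)]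
    congr 1
    rw [Fintype.card_coe, Finset.card_eq_sum_ones, Nat.cast_sum, Finset.sum_mul]
    refine Finset.sum_congr rfl fun χ hχ => ?_
    rw [hcX i χ hχ, hcX k χ hχ, map_mul, map_intCast]
    push_cast
    linear_combination -(c i * conj (c k)) * R.sq_eq_one hχ
  obtain ⟨-, π, hπ, hval⟩ := exists_match (X := X) (Y := Y) S.reps
    (by rw [Fintype.card_coe, hX]) (by rw [Fintype.card_coe, hY]) δ₀ R.sign₀
    (fun i ψ => col i ψ) c hne
    (fun i => by rw [hc i, Finset.sum_coe_sort Y fun ψ => col i ψ]) horth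
    (fun q => by
      obtain ⟨z, hz⟩ := hint q j₁ ((R.mem _).2 (Or.inl hj₁)) j₁ ((R.mem _).2 (Or.inl hj₁))
      refine ⟨z, ?_⟩
      rw [← hz]
      refine congrArg _ (Finset.sum_congr rfl fun i _ => congrArg _ ?_)
      rw [hcX i j₁ hj₁, map_mul, map_intCast]
      linear_combination -(c i * conj (c i)) * R.sq_eq_one hj₁)
    (fun q ψ => by
      obtain ⟨z, hz⟩ := hint q j₁ ((R.mem _).2 (Or.inl hj₁)) ψ ((R.mem _).2 (Or.inr ψ.2))
      refine ⟨δ j₁ * z, ?_⟩
      rw [Int.cast_mul, ← hz]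
      simp only [Finset.mul_sum]
      refine Finset.sum_congr rfl fun i _ => ?_
      rw [hcX i j₁ hj₁]
      linear_combination -((Nat.card P : ℂ)⁻¹ * (orbSum (autP P e) (rep (autP P e) q) (S.r i) -
        Nat.card (autP P e)) * (c i * conj (col i ψ))) * R.sq_eq_one hj₁)
  refine ⟨c, fun q => (π q : Cfsg.IrrCharacter G), Subtype.val_injective.comp hπ.1,
    fun q => (π q).2, fun ψ hψ => ?_, fun i => ?_, hcX, hval⟩
  · obtain ⟨q, hq⟩ := hπ.2 ⟨ψ, hψ⟩
    exact ⟨q, congrArg Subtype.val hq⟩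
  · rw [hc]
    exact (isIntegral_algebraMap (x := δ₀)).mul
      (IsIntegral.sum _ fun ψ _ => (hcol i).integral ψ)

end CfsgLib.PerfIso
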