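import Cfsg.Agent.Lib.PerfIso.Kernel

/-!
Composition of two perfect isometries with a common source.
-/

set_option autoImplicit false
set_option maxHeartbeats 800000

open Cfsg
open scoped ComplexConjugate

namespace CfsgLib.PerfIso

universe u v w

variable {G : Type u} [Group G] {H : Type v} [Group H] {F : Type w} [Group F] [Finite F]

/-- The average of a class function over the group as a sum over classes. -/
theorem sum_div_card_eq_sum_classes [Fintype F] [Fintype (ConjClasses F)] (f : F → ℂ)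
    (hf : ∀ y c : F, f (c * y * c⁻¹) = f y) :
    (∑ y, f y) / (Nat.card F : ℂ) = ∑ C : ConjClasses F,
      f (Quotient.out C) / (Nat.card (Subgroup.centralizer ({Quotient.out C} : Set F)) : ℂ) := by
  classical
  rw [← Finset.sum_fiberwise Finset.univ ConjClasses.mk f, Finset.sum_div]
  refine Finset.sum_congr rfl fun C _ => ?_
  set g := Quotient.out C with hg
  have hC : ConjClasses.mk g = C := Quotient.out_eq C
  have hval : ∀ y ∈ Finset.univ.filter (fun y => ConjClasses.mk y = C), f y = f g := by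
    intro y hy
    have hy' := (Finset.mem_filter.1 hy).2
    rw [← hC, ConjClasses.mk_eq_mk_iff_isConj] at hy'
    obtain ⟨c, hc⟩ := isConj_iff.1 hy'
    rw [← hc, hf]
  have hcard : (Finset.univ.filter (fun y => ConjClasses.mk y = C)).card =
      Nat.card {x : F // IsConj g x} := by
    rw [← Fintype.card_subtype, ← Nat.card_eq_fintype_card]
    refine Nat.card_congr (Equiv.subtypeEquivRight fun x => ?_)
    rw [← hC, ConjClasses.mk_eq_mk_iff_isConj]
    exact ⟨IsConj.symm, IsConj.symm⟩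
  rw [Finset.sum_congr rfl hval, Finset.sum_const, hcard, nsmul_eq_mul,
    ← CfsgLib.Char.card_isConj_mul_card_centralizer g, Nat.cast_mul,
    mul_div_mul_left _ _ (Nat.cast_ne_zero.2 (Nat.card_pos_iff.2
      ⟨⟨⟨g, IsConj.refl g⟩⟩, inferInstance⟩).ne')]

variable [Finite G] [Finite H]

omit [Finite F] [Finite G] [Finite H] in
theorem isPRegular_inv_iff {p : ℕ} (y : F) : IsPRegular p y⁻¹ ↔ IsPRegular p y := by
  show ¬ p ∣ orderOf y⁻¹ ↔ ¬ p ∣ orderOf y
  rw [orderOf_inv]

/-- Two perfect isometries with the same source compose. -/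
theorem exists_perfectIsometry_comp {p : ℕ} {M : Ideal AlgInt} (hM : IsPModular p M)
    {B : Set (IrrCharacter G)} {c : Set (IrrCharacter H)} {I₁ : IrrCharacter F → IrrCharacter G}
    {ε₁ : IrrCharacter F → ℤ} {I₂ : IrrCharacter F → IrrCharacter H} {ε₂ : IrrCharacter F → ℤ}
    (h₁ : IsPerfectIsometry p M (Set.univ : Set (IrrCharacter F)) B I₁ ε₁)
    (h₂ : IsPerfectIsometry p M (Set.univ : Set (IrrCharacter F)) c I₂ ε₂) :
    ∃ (I : IrrCharacter H → IrrCharacter G) (ε : IrrCharacter H → ℤ),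
      IsPerfectIsometry p M c B I ε := by
  classical
  haveI := Fintype.ofFinite F
  haveI := Fintype.ofFinite (IrrCharacter F)
  haveI : Finite (ConjClasses F) := Finite.of_surjective ConjClasses.mk Quotient.mk_surjective
  haveI := Fintype.ofFinite (ConjClasses F)
  haveI : Nonempty (IrrCharacter F) := ⟨⟨_, CfsgLib.Char.isIrrCharacter_linear (1 : F →* ℂˣ)⟩⟩
  set inv : IrrCharacter H → IrrCharacter F := Function.invFunOn I₂ Set.univ with hinv
  have hinvI : ∀ η, inv (I₂ η) = η := fun η =>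
    h₂.1.injOn.leftInvOn_invFunOn (Set.mem_univ η)
  have hIinv : ∀ χ ∈ c, I₂ (inv χ) = χ := fun χ hχ =>
    h₂.1.surjOn.rightInvOn_invFunOn hχ
  let I : IrrCharacter H → IrrCharacter G := fun χ => I₁ (inv χ)
  let ε : IrrCharacter H → ℤ := fun χ => ε₁ (inv χ) * ε₂ (inv χ)
  refine ⟨I, ε, ⟨fun χ _ => h₁.1.mapsTo (Set.mem_univ _), fun χ hχ χ' hχ' h => ?_,
    fun ψ hψ => ?_⟩, fun χ hχ => ?_, ?_⟩
  · rw [← hIinv χ hχ, ← hIinv χ' hχ', h₁.1.injOn (Set.mem_univ _) (Set.mem_univ _) h]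
  · obtain ⟨η, -, rfl⟩ := h₁.1.surjOn hψ
    exact ⟨I₂ η, h₂.1.mapsTo (Set.mem_univ _), by show I₁ _ = _; rw [hinvI]⟩
  · rcases h₁.2.1 (inv χ) (Set.mem_univ _) with h | h <;>
      rcases h₂.2.1 (inv χ) (Set.mem_univ _) with h' | h' <;> simp [ε, h, h']
  set μ₁ := signedBijectionKernel (Set.univ : Set (IrrCharacter F)) I₁ ε₁ with hμ₁
  set μ₂ := signedBijectionKernel (Set.univ : Set (IrrCharacter F)) I₂ ε₂ with hμ₂
  have hμ₁v : ∀ g y, μ₁ g y = ∑ η, (ε₁ η : ℂ) * (I₁ η : G → ℂ) g * (η : F → ℂ) y := fun g y => by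
    rw [hμ₁, signedBijectionKernel, finsum_mem_univ, finsum_eq_sum_of_fintype]
  have hμ₂v : ∀ g y, μ₂ g y = ∑ η, (ε₂ η : ℂ) * (I₂ η : H → ℂ) g * (η : F → ℂ) y := fun g y => by
    rw [hμ₂, signedBijectionKernel, finsum_mem_univ, finsum_eq_sum_of_fintype]
  intro g h
  set μ := signedBijectionKernel c I ε g h with hμ
  have hμv : μ = ∑ η, (ε₁ η : ℂ) * ε₂ η * (I₁ η : G → ℂ) g * (I₂ η : H → ℂ) h := by
    rw [← finsum_eq_sum_of_fintype (fun η => (ε₁ η : ℂ) * ε₂ η * (I₁ η : G → ℂ) g *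
      (I₂ η : H → ℂ) h), ← finsum_mem_univ, hμ, signedBijectionKernel]
    refine (finsum_mem_eq_of_bijOn I₂ h₂.1 fun η _ => ?_).symm
    simp only [I, ε, hinvI]
    push_cast
    ring
  have hcl : ∀ y z : F, μ₁ g (z * y * z⁻¹) * μ₂ h (z * y * z⁻¹)⁻¹ = μ₁ g y * μ₂ h y⁻¹ := by
    intro y z
    rw [hμ₁v, hμ₁v, hμ₂v, hμ₂v, show (z * y * z⁻¹)⁻¹ = z * y⁻¹ * z⁻¹ by group]
    congr 1 <;> refine Finset.sum_congr rfl fun η _ => ?_ <;>
      rw [CfsgLib.Char.IsIrrCharacter.isClassFunction η.2 _ z]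
  have hkey : μ = ∑ C : ConjClasses F, μ₁ g (Quotient.out C) * μ₂ h (Quotient.out C)⁻¹ /
      (Nat.card (Subgroup.centralizer ({Quotient.out C} : Set F)) : ℂ) := by
    rw [← sum_div_card_eq_sum_classes (fun y => μ₁ g y * μ₂ h y⁻¹) hcl, hμv,
      eq_div_iff (Nat.cast_ne_zero.2 Nat.card_pos.ne')]
    symm
    simp only [hμ₁v, hμ₂v, Finset.sum_mul_sum]
    rw [Finset.sum_comm, Finset.sum_mul]
    refine Finset.sum_congr rfl fun η _ => ?_
    rw [Finset.sum_comm, Finset.sum_eq_single η]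
    · have hnorm : ∑ y : F, (η : F → ℂ) y * (η : F → ℂ) y⁻¹ = (Nat.card F : ℂ) := by
        have h1 := CfsgLib.Char.classInner_irr_self η.2
        rw [Cfsg.classInner, inv_mul_eq_iff_eq_mul₀ (Nat.cast_ne_zero.2 Nat.card_pos.ne'),
          mul_one] at h1
        rw [← h1]
        exact Finset.sum_congr rfl fun y _ => by
          rw [CfsgLib.Char.IsIrrCharacter.apply_inv η.2]
      rw [← hnorm, Finset.mul_sum]
      exact Finset.sum_congr rfl fun y _ => by ring
    · intro η' _ hne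
      have h1 := CfsgLib.Char.classInner_irr η.2 η'.2
      rw [if_neg fun e => hne (Subtype.ext e).symm, Cfsg.classInner, mul_eq_zero] at h1
      have h2 := h1.resolve_left (inv_ne_zero (Nat.cast_ne_zero.2 Nat.card_pos.ne'))
      rw [← mul_zero ((ε₁ η : ℂ) * (I₁ η : G → ℂ) g * ((ε₂ η' : ℂ) * (I₂ η' : H → ℂ) h)), ← h2,
        Finset.mul_sum]
      refine Finset.sum_congr rfl fun y _ => ?_
      rw [← CfsgLib.Char.IsIrrCharacter.apply_inv η'.2]
      ring
    · exact fun hn => absurd (Finset.mem_univ _) hn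
  refine ⟨?_, ?_, ?_⟩
  · rw [hkey, Finset.sum_div]
    refine CfsgLib.BlockReg.memRing_sum hM _ fun C _ => ?_
    have ha := (h₁.2.2 g (Quotient.out C)).1
    have hb := (h₂.2.2 h (Quotient.out C)⁻¹).2.1
    rw [← hμ₁] at ha
    rw [← hμ₂] at hb
    have hcc : Subgroup.centralizer ({(Quotient.out C)⁻¹} : Set F) =
        Subgroup.centralizer ({Quotient.out C} : Set F) := by
      ext x
      simp only [Subgroup.mem_centralizer_singleton_iff]
      exact Commute.inv_right_iff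
    rw [hcc] at hb
    convert CfsgLib.BlockReg.memRing_mul hM ha hb using 1
    ring
  · rw [hkey, Finset.sum_div]
    refine CfsgLib.BlockReg.memRing_sum hM _ fun C _ => ?_
    have ha := (h₁.2.2 g (Quotient.out C)).2.1
    have hb := (h₂.2.2 h (Quotient.out C)⁻¹).1
    rw [← hμ₁] at ha
    rw [← hμ₂] at hb
    convert CfsgLib.BlockReg.memRing_mul hM ha hb using 1
    ring
  · by_cases h0 : μ = 0
    · exact Or.inr h0
    · left
      rw [hkey] at h0
      obtain ⟨C, -, hC⟩ := Finset.exists_ne_zero_of_sum_ne_zero h0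
      have hm1 : μ₁ g (Quotient.out C) ≠ 0 := fun e => hC (by rw [e, zero_mul, zero_div])
      have hm2 : μ₂ h (Quotient.out C)⁻¹ ≠ 0 := fun e => hC (by rw [e, mul_zero, zero_div])
      have e1 := (h₁.2.2 g (Quotient.out C)).2.2.resolve_right hm1
      have e2 := (h₂.2.2 h (Quotient.out C)⁻¹).2.2.resolve_right hm2
      rw [isPRegular_inv_iff] at e2
      exact e1.trans e2.symm

end CfsgLib.PerfIso
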