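import Cfsg.Agent.Lib.PerfIso.Transfer
import Cfsg.Agent.Lib.Blk83.CyclicData
import Cfsg.Agent.Lib.BlockRank.FreeSections

/-!
Perfect isometries for blocks with cyclic defect groups, given the relation between their
characters on regular elements.
-/

set_option autoImplicit false
set_option maxHeartbeats 1600000
set_option synthInstance.maxHeartbeats 400000

open Cfsg CfsgLib.Blocks CfsgLib.Blocks.Pairs CfsgLib.Blk83.Cyc
open scoped IsMulCommutative

namespace CfsgLib.PerfIso

universe u v

variable {G : Type u} [Group G] [Finite G] {p : ℕ} [Fact p.Prime] {M : Ideal AlgInt} [M.IsMaximal]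
  [CharP (ResField M) p]

/-- The relation on regular elements between the characters of a block with cyclic defect group of
order `p ^ a` and inertial index `e`. -/
def HasRelation (p a e : ℕ) (B : Set (IrrCharacter G)) : Prop :=
  ∃ X Y : Set (IrrCharacter G), B = X ∪ Y ∧ Disjoint X Y ∧ Nat.card X = e ∧
    Nat.card Y = (p ^ a - 1) / e ∧
    ∃ (δ : IrrCharacter G → ℤ) (δ₀ : ℤ), (∀ χ ∈ X, δ χ = 1 ∨ δ χ = -1) ∧ (δ₀ = 1 ∨ δ₀ = -1) ∧
      ∀ ψ ∈ Y, ∀ g : G, ¬ p ∣ orderOf g →
        (δ₀ : ℂ) * (ψ : G → ℂ) g + ∑ᶠ χ ∈ X, (δ χ : ℂ) * (χ : G → ℂ) g = 0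

variable {B : Set (IrrCharacter G)} {hB : IsPBlock M B} {D : Subgroup G}
  {eD : MonoidAlgebra (ResField M) G} {a e : ℕ}

theorem card_autP_cyc (h : CycData p hB D eD a e) : Nat.card (autP D eD) = e := by
  rw [card_autP]
  exact h.idx

theorem free_cyc (h : CycData p hB D eD a e) : Free D (pairStab D eD) := h.inertial.2.2.2

theorem e_lt (h : CycData p hB D eD a e) : 0 < e ∧ e < p ∧ e ∣ p - 1 := by
  have h1 := h.inertial.2.2.1
  have h2 := (Fact.out : p.Prime).two_le
  have h3 : 0 < e := Nat.pos_of_dvd_of_pos h1 (by omega)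
  have h4 := Nat.le_of_dvd (by omega) h1
  exact ⟨h3, by omega, h1⟩

/-- The automorphisms of a cyclic group commute. -/
theorem mulAut_comm {A : Type*} [Group A] [Finite A] [IsCyclic A] (a b : MulAut A) :
    a * b = b * a :=
  (IsCyclic.mulAutMulEquiv A).injective (by rw [map_mul, map_mul, mul_comm])

/-- The regular data from the relation. -/
theorem exists_regularData_cyc (h : CycData p hB D eD a e) (hR : HasRelation p a e B) :
    blockRank p B = e ∧ Nat.card B = e + (p ^ a - 1) / e ∧
    ∃ (X Y : Finset (IrrCharacter G)) (δ : IrrCharacter G → ℤ) (δ₀ : ℤ),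
      RegularData p B X Y δ δ₀ ∧ X.card = Nat.card (autP D eD) ∧
      Nat.card D = 1 + Nat.card (autP D eD) * Y.card := by
  classical
  haveI := Fintype.ofFinite G
  obtain ⟨X, Y, hXY, hdis, hXc, hYc, δ, δ₀, hδ, hδ₀, hrel⟩ := hR
  haveI := Fintype.ofFinite X
  haveI := Fintype.ofFinite Y
  have hk : Nat.card B = e + (p ^ a - 1) / e := by
    rw [hXY, Nat.card_coe_set_eq, Set.ncard_union_eq hdis, ← Nat.card_coe_set_eq,
      ← Nat.card_coe_set_eq, hXc, hYc]
  obtain ⟨m, hkm, hm⟩ := CfsgLib.BlockRank.exists_card_of_free h.hM hB h.pair h.noExt h.comm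
    (free_cyc h)
  rw [h.idx, h.card] at hm
  have hm' : (p ^ a - 1) / e = m := by
    rw [show p ^ a - 1 = e * m by omega, Nat.mul_div_cancel_left _ (e_lt h).1]
  have hl : blockRank p B = e := by omega
  refine ⟨hl, hk, X.toFinset, Y.toFinset, δ, δ₀,
    { mem := fun χ => by simp [hXY]
      disj := by
        rw [Finset.disjoint_left]
        exact fun χ h1 h2 => Set.disjoint_left.1 hdis (Set.mem_toFinset.1 h1)
          (Set.mem_toFinset.1 h2)
      sign := fun χ hχ => hδ χ (Set.mem_toFinset.1 hχ)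
      sign₀ := hδ₀
      rank := by rw [hl, Set.toFinset_card, ← Nat.card_eq_fintype_card, hXc]
      relation := fun ψ hψ g hg => ?_ }, ?_, ?_⟩
  · rw [← finsum_mem_eq_toFinset_sum]
    exact hrel ψ (Set.mem_toFinset.1 hψ) g hg
  · rw [card_autP_cyc h, Set.toFinset_card, ← Nat.card_eq_fintype_card, hXc]
  · rw [card_autP_cyc h, Set.toFinset_card, ← Nat.card_eq_fintype_card, hYc, hm', h.card, hm]

/-- Subgroups of the automorphism group of the same small order are equal. -/
theorem subgroup_mulAut_eq {A : Type*} [CommGroup A] [Finite A] [IsCyclic A]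
    (hA : Nat.card A = p ^ a) {S T : Subgroup (MulAut A)} (hS : Nat.card S = e)
    (hT : Nat.card T = e) (he : e ∣ p - 1) : S = T := by
  rcases eq_or_ne p 2 with rfl | hp2
  · have he1 : e = 1 := Nat.dvd_one.1 (by simpa using he)
    rw [Subgroup.card_eq_one.1 (hS.trans he1), Subgroup.card_eq_one.1 (hT.trans he1)]
  haveI : IsCyclic (ZMod (Nat.card A))ˣ := by
    rw [hA]
    exact ZMod.isCyclic_units_of_prime_pow p Fact.out hp2 a
  haveI : IsCyclic (MulAut A) :=
    isCyclic_of_surjective (IsCyclic.mulAutMulEquiv A).symm (MulEquiv.surjective _)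
  haveI : Finite (MulAut A) := Finite.of_equiv _ (IsCyclic.mulAutMulEquiv A).symm.toEquiv
  exact CfsgLib.Blk83.Cyc.eq_of_card_eq_of_le_cyclic (D := (⊤ : Subgroup (MulAut A)))
    (isCyclic_of_surjective Subgroup.topEquiv.symm.toMonoidHom Subgroup.topEquiv.symm.surjective)
    le_top le_top (hS.trans hT.symm)

/-- A subgroup of order a power of `p` and index less than `p` is normal. -/
theorem normal_of_index_lt {F : Type*} [Group F] [Finite F] {Q : Subgroup F}
    (hQ : Nat.card Q = p ^ a) {e : ℕ} (he0 : 0 < e) (hep : e < p)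
    (hF : Nat.card F = p ^ a * e) : Q.Normal := by
  have hp : p.Prime := Fact.out
  have hindex : Q.index = e := by
    have h := Subgroup.card_mul_index Q
    rw [hQ, hF] at h
    exact Nat.eq_of_mul_eq_mul_left (pow_pos hp.pos _) h
  have hnd : ¬ p ∣ Q.index := by
    rw [hindex]
    exact Nat.not_dvd_of_pos_of_lt he0 hep
  let P : Sylow p F := (IsPGroup.of_card hQ).toSylow hnd
  have hP : (P : Subgroup F) = Q := rfl
  have hd : Nat.card (Sylow p F) ∣ e := hindex ▸ hP ▸ P.card_dvd_index
  have hmod := card_sylow_modEq_one p F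
  have hle : Nat.card (Sylow p F) ≤ e := Nat.le_of_dvd he0 hd
  have h1 : Nat.card (Sylow p F) = 1 := by
    rw [Nat.ModEq, Nat.mod_eq_of_lt (by omega), Nat.mod_eq_of_lt hp.one_lt] at hmod
    exact hmod
  haveI : Subsingleton (Sylow p F) := (Nat.card_eq_one_iff_unique.1 h1).1
  exact hP ▸ Sylow.normal_of_subsingleton P

/-- The perfect isometry between a block with cyclic defect group and a Frobenius group. -/
theorem exists_perfectIsometry_cyc (h : CycData p hB D eD a e) (hR : HasRelation p a e B)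
    {F : Type v} [Group F] [Finite F] (hF : Nat.card F = Nat.card D * e) (Q : Subgroup F)
    (hQc : IsCyclic Q) (hQcard : Nat.card Q = Nat.card D)
    (hQC : Subgroup.centralizer (Q : Set F) = Q) :
    ∃ (I : IrrCharacter F → IrrCharacter G) (ε : IrrCharacter F → ℤ),
      IsPerfectIsometry p M (Set.univ : Set (IrrCharacter F)) B I ε ∧
      ∀ η η' : IrrCharacter F, (∃ x ∈ Q, (η : F → ℂ) x ≠ (η : F → ℂ) 1) →
        (∃ x ∈ Q, (η' : F → ℂ) x ≠ (η' : F → ℂ) 1) → ε η = ε η' := by
  classical
  obtain ⟨he0, hep, hed⟩ := e_lt h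
  haveI : Q.Normal := normal_of_index_lt (hQcard.trans h.card) he0 hep (by rw [hF, h.card])
  haveI := h.cyc
  haveI : IsMulCommutative D := ⟨⟨fun x y => Subtype.ext (h.comm x x.2 y y.2)⟩⟩
  let iso : Q ≃* D := mulEquivOfCyclicCardEq hQcard
  obtain ⟨-, -, X, Y, δ, δ₀, R, hX, hY⟩ := exists_regularData_cyc h hR
  have hker : (actHom iso).ker = Q := actHom_ker iso hQC
  have hcard : Nat.card (actHom iso).range = e := by
    rw [← Subgroup.index_ker, hker]
    have h1 := Subgroup.card_mul_index Q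
    rw [hQcard, hF] at h1
    exact Nat.eq_of_mul_eq_mul_left Nat.card_pos h1
  have hrange : (actHom iso).range = autP D eD :=
    subgroup_mulAut_eq h.card hcard (card_autP_cyc h) hed
  exact exists_perfectIsometry_frob h.hM hB h.pair h.noExt (free_cyc h) h.ne_bot
    (fun x y => Subtype.ext (mulAut_comm _ _)) R hX hY iso hQC hrange

/-- The data of a block with a cyclic defect group and a block of the centralizer below it. -/
theorem exists_cycData (hM : IsPModular p M) {B : Set (IrrCharacter G)} {P : Subgroup G}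
    (hPD : IsDefectGroup p M B P) (hP1 : P ≠ ⊥) (hcyc : IsCyclic P)
    {c : Set (IrrCharacter (Subgroup.centralizer (P : Set G)))} (hc : IsPBlock M c)
    (hind : IsInducedBlock M (Subgroup.centralizer (P : Set G)) c B) :
    ∃ (hB : IsPBlock M B) (a : ℕ),
      CycData p hB P (eIn hc) a
        ((Subgroup.centralizer (P : Set G)).relIndex (pairStab P (eIn hc))) := by
  obtain ⟨hB, hc1, hP, hno, -, hPp⟩ := exists_root_pair hM hPD hind
  obtain ⟨n, hn⟩ := (IsPGroup.iff_card (p := p)).1 hPp
  have hn0 : n ≠ 0 := fun h => hP1 (Subgroup.card_eq_one.1 (by rw [hn, h, pow_zero]))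
  exact ⟨hB, n, hM, hP, hno, hcyc, hn, Nat.one_le_iff_ne_zero.2 hn0, rfl⟩

/-- The normalizer of a cyclic group normalizes its subgroups. -/
theorem normalizer_le_normalizer_of_cyclic {P Z : Subgroup G} (hcyc : IsCyclic P) (hZ : Z ≤ P) :
    Subgroup.normalizer (P : Set G) ≤ Subgroup.normalizer (Z : Set G) := by
  intro g hg
  refine mem_normalizer_of_conjSub_eq (eq_of_card_eq_of_le_cyclic hcyc
    ((conjSub_mono g hZ).trans (conjSub_eq_of_mem_normalizer hg).le) hZ ?_)
  exact card_map_conj g Z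


/-- The stabilizer of a block in the form of the statements. -/
theorem mem_pairStab_iff_forall {D : Subgroup G}
    {b : Set (IrrCharacter (Subgroup.centralizer (D : Set G)))} (hb : IsPBlock M b) (g : G) :
    g ∈ pairStab D (eIn hb) ↔ g ∈ Subgroup.normalizer (D : Set G) ∧ ∀ θ ∈ b,
      ∀ θ' : IrrCharacter (Subgroup.centralizer (D : Set G)),
        (∀ h h' : Subgroup.centralizer (D : Set G), (h' : G) = g * h * g⁻¹ →
          (θ' : Subgroup.centralizer (D : Set G) → ℂ) h' =
            (θ : Subgroup.centralizer (D : Set G) → ℂ) h) → θ' ∈ b := by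
  rw [CfsgLib.Blk83.mem_pairStab_iff hb]
  refine and_congr_right fun hgN => ?_
  have hx := CfsgLib.Blocks.Pairs.normalizer_le_normalizer_centralizer D hgN
  constructor
  · intro hs θ hθ θ' hc
    obtain ⟨χ', hχ', hc'⟩ := hs.2 θ hθ
    have : θ' = χ' := Subtype.ext (funext fun k' => by
      have hk : g⁻¹ * (k' : G) * g ∈ Subgroup.centralizer (D : Set G) :=
        (Subgroup.mem_normalizer_iff''.mp hx k').mp k'.2
      rw [hc ⟨_, hk⟩ k' (by group), hc' ⟨_, hk⟩ k' (by group)])
    rwa [this]
  · intro hs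
    refine ⟨hx, fun θ hθ => ?_⟩
    let φ : Subgroup.centralizer (D : Set G) ≃* Subgroup.centralizer (D : Set G) :=
      { toFun := fun q => ⟨g⁻¹ * q * g, (Subgroup.mem_normalizer_iff''.mp hx q).mp q.2⟩
        invFun := fun q => ⟨g * q * g⁻¹, (Subgroup.mem_normalizer_iff.mp hx q).mp q.2⟩
        left_inv := fun q => Subtype.ext (by simp [mul_assoc])
        right_inv := fun q => Subtype.ext (by simp [mul_assoc])
        map_mul' := fun a b => Subtype.ext (by simp [mul_assoc]) }
    have hconj : ∀ q q' : Subgroup.centralizer (D : Set G), (q' : G) = g * q * g⁻¹ →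
        (pull φ θ : Subgroup.centralizer (D : Set G) → ℂ) q' =
          (θ : Subgroup.centralizer (D : Set G) → ℂ) q := fun q q' hq => by
      rw [pull_apply]
      refine congrArg _ (Subtype.ext ?_)
      show g⁻¹ * (q' : G) * g = (q : G)
      rw [hq]; group
    exact ⟨pull φ θ, hs θ hθ _ hconj, hconj⟩

/-- Blocks with cyclic defect groups satisfy the relation. -/
def RelationAll (p : ℕ) [Fact p.Prime] (M : Ideal AlgInt) [M.IsMaximal]
    [CharP (ResField M) p] : Prop :=
  ∀ (K : Type u) [Group K] [Finite K] (B : Set (IrrCharacter K)) (D : Subgroup K)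
    (c : Set (IrrCharacter (Subgroup.centralizer (D : Set K)))) (hc : IsPBlock M c) (a e : ℕ)
    (hB : IsPBlock M B),
    IsDefectGroup p M B D → IsInducedBlock M (Subgroup.centralizer (D : Set K)) c B →
    CycData p hB D (eIn hc) a e → HasRelation p a e B

/-- Corresponding blocks with cyclic defect group. -/
theorem cyclic_correspondence (hrel : RelationAll.{u} p M) (hM : IsPModular p M)
    {B : Set (IrrCharacter G)} {P : Subgroup G} (hPD : IsDefectGroup p M B P) (hP1 : P ≠ ⊥)
    (hcyc : IsCyclic P) (H : Subgroup G) (hNH : Subgroup.normalizer (P : Set G) ≤ H)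
    {c : Set (IrrCharacter H)} (hcD : IsDefectGroup p M c (P.subgroupOf H))
    (hc : IsInducedBlock M H c B) :
    Nat.card c = Nat.card B ∧ blockRank p c = blockRank p B ∧
      ∃ (I : IrrCharacter H → IrrCharacter G) (ε : IrrCharacter H → ℤ),
        IsPerfectIsometry p M c B I ε := by
  classical
  haveI := hcyc
  have hPH : P ≤ H := Subgroup.le_normalizer.trans hNH
  have hCH : Subgroup.centralizer (P : Set G) ≤ H :=
    (Subgroup.centralizer_le_normalizer _).trans hNH
  obtain ⟨c₀, hc₀, hc₀'⟩ := exists_local_root H hM hPH hCH hcD hc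
  have hcyc' : IsCyclic (P.subgroupOf H) :=
    isCyclic_of_surjective (Subgroup.subgroupOfEquivOfLe hPH).symm.toMonoidHom
      (Subgroup.subgroupOfEquivOfLe hPH).symm.surjective
  have hP1' : P.subgroupOf H ≠ ⊥ := fun h => hP1 (by
    rw [← Subgroup.map_subgroupOf_eq_of_le hPH, h, Subgroup.map_bot])
  obtain ⟨hB, a, hd⟩ := exists_cycData hM hPD hP1 hcyc hc₀.1 hc₀
  obtain ⟨hcB, a', hd'⟩ := exists_cycData hM hcD hP1' hcyc' hc₀'.1 hc₀'
  have ha : a' = a := Nat.pow_right_injective (Fact.out : p.Prime).two_le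
    ((hd'.card.symm.trans (Nat.card_congr (Subgroup.subgroupOfEquivOfLe hPH).toEquiv)).trans hd.card)
  have haut := autP_centEquiv H hPH hCH hNH hc₀.1 hc₀'.1
  have he : Nat.card (autP (P.subgroupOf H) (eIn hc₀'.1)) = Nat.card (autP P (eIn hc₀.1)) := by
    rw [haut]
    exact Subgroup.card_map_of_injective
      (MulAut.congr (Subgroup.subgroupOfEquivOfLe hPH).symm).injective
  have he' := he
  rw [card_autP_cyc hd, card_autP_cyc hd'] at he'
  obtain ⟨hl, hk, X, Y, δ, δ₀, R, hX, hY⟩ :=
    exists_regularData_cyc hd (hrel G B P c₀ hc₀.1 _ _ hB hPD hc₀ hd)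
  obtain ⟨hl', hk', X', Y', δ', δ₀', R', hX', hY'⟩ :=
    exists_regularData_cyc hd' (hrel H c _ _ hc₀'.1 _ _ hcB hcD hc₀' hd')
  refine ⟨by rw [hk, hk', he', ha], by rw [hl, hl', he'], ?_⟩
  haveI : IsMulCommutative P := ⟨⟨fun x y => Subtype.ext (hd.comm x x.2 y y.2)⟩⟩
  haveI : IsMulCommutative (P.subgroupOf H) :=
    ⟨⟨fun x y => Subtype.ext (hd'.comm x x.2 y y.2)⟩⟩
  exact exists_perfectIsometry_local hM H hPH hCH hNH hc₀.1 hc₀'.1 hd.pair hd.noExt hd'.pair
    hd'.noExt (free_cyc hd) (free_cyc hd') hP1 (fun x y => Subtype.ext (mulAut_comm _ _)) R hX hY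
    R' hX' hY'

end CfsgLib.PerfIso
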