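import Cfsg.Agent.Lib.PerfIso.Kernel
import Cfsg.Agent.Lib.Char.FrobeniusInd
import Cfsg.Agent.Lib.Char.InertiaNorm

/-!
The characters of a group with an abelian self-centralizing normal subgroup on which the quotient
acts freely.
-/

set_option autoImplicit false
set_option maxHeartbeats 1600000

open Cfsg CfsgLib.Blk83.FreeOrbit CfsgLib.CharTwist
open scoped ComplexConjugate

namespace CfsgLib.PerfIso

universe u v

variable {F : Type v} [Group F] [Finite F] {A : Type u} [CommGroup A] [Finite A]
  {T : Subgroup (MulAut A)}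

section Sums

/-- A sum over the group of a function of the image. -/
theorem sum_comp_hom [Fintype F] [Fintype T] (f : F →* T) (hf : Function.Surjective f)
    (φ : T → ℂ) : ∑ x : F, φ (f x) = (Nat.card f.ker : ℂ) * ∑ a : T, φ a := by
  classical
  rw [← Finset.sum_fiberwise Finset.univ f fun x => φ (f x), Finset.mul_sum]
  refine Finset.sum_congr rfl fun a _ => ?_
  obtain ⟨x₀, rfl⟩ := hf a
  rw [Finset.sum_congr rfl fun x hx => by rw [(Finset.mem_filter.1 hx).2], Finset.sum_const,
    nsmul_eq_mul]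
  congr 1
  rw [← Fintype.card_subtype, ← Nat.card_eq_fintype_card]
  norm_cast
  exact Nat.card_congr
    { toFun := fun x => ⟨x₀⁻¹ * x.1, MonoidHom.mem_ker.2 (by rw [map_mul, map_inv, x.2]; group)⟩
      invFun := fun k => ⟨x₀ * k.1, by rw [map_mul, MonoidHom.mem_ker.1 k.2, mul_one]⟩
      left_inv := fun x => Subtype.ext (by simp)
      right_inv := fun k => Subtype.ext (by simp) }

end Sums

variable {p : ℕ} [Fact p.Prime] {Q : Subgroup F} [Q.Normal] (iso : Q ≃* A)

/-- The action of the whole group on `A`. -/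
def actHom : F →* MulAut A :=
  (MulAut.congr iso).toMonoidHom.comp (MulAut.conjNormal (H := Q) : F →* MulAut Q)

omit [Finite F] [Finite A] in
theorem actHom_apply (x : F) (y : Q) :
    actHom iso x (iso y) = iso ⟨x * y * x⁻¹, ‹Q.Normal›.conj_mem y y.2 x⟩ := by
  show iso (MulAut.conjNormal x (iso.symm (iso y))) = _
  rw [MulEquiv.symm_apply_apply]
  exact congrArg iso (Subtype.ext (MulAut.conjNormal_apply x y))

variable (hC : Subgroup.centralizer (Q : Set F) = Q) (hrange : (actHom iso).range = T)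

omit [Finite F] [Finite A] in
include hC in
theorem actHom_ker : (actHom iso).ker = Q := by
  ext x
  rw [MonoidHom.mem_ker]
  refine ⟨fun h => hC ▸ Subgroup.mem_centralizer_iff.2 fun y hy => ?_, fun hx => ?_⟩
  · have h1 := actHom_apply iso x ⟨y, hy⟩
    rw [h, MulAut.one_apply] at h1
    have h2 : y = x * y * x⁻¹ := congrArg Subtype.val (iso.injective h1)
    calc y * x = x * y * x⁻¹ * x := by rw [← h2]
      _ = x * y := by group
  · refine MulEquiv.ext fun a => ?_
    obtain ⟨y, rfl⟩ := iso.surjective a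
    rw [MulAut.one_apply, actHom_apply]
    refine congrArg iso (Subtype.ext ?_)
    have h := Subgroup.mem_centralizer_iff.1 (hC.symm ▸ hx : x ∈ Subgroup.centralizer (Q : Set F))
      y y.2
    show x * (y : F) * x⁻¹ = y
    rw [← h, mul_inv_cancel_right]

include hC hrange in
/-- The characters of a group of Frobenius shape. -/
theorem exists_frobModel [Fintype T] (hfree : ∀ a : T, a ≠ 1 → ∀ y : A, (a : MulAut A) y = y → y = 1)
    (hcomm : ∀ a b : T, a * b = b * a) (hA : ∃ n : ℕ, Nat.card A = p ^ n)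
    (hpT : ¬ p ∣ Nat.card T) : Nonempty (FrobModel F p T) := by
  classical
  haveI := Fintype.ofFinite F
  haveI := Fintype.ofFinite A
  haveI := Fintype.ofFinite (IrrCharacter F)
  haveI := finite_orb T
  haveI := Fintype.ofFinite (Orb T)
  haveI := Fintype.ofFinite Q
  letI : CommGroup T := { (inferInstance : Group T) with mul_comm := hcomm }
  haveI := finite_dual (A := T)
  have hp : p.Prime := Fact.out
  let f : F →* T := (actHom iso).codRestrict T fun x => hrange ▸ ⟨x, rfl⟩
  have hfapp : ∀ x a, ((f x : T) : MulAut A) a = actHom iso x a := fun x a => rfl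
  have hfker : f.ker = Q := by rw [MonoidHom.ker_codRestrict, actHom_ker iso hC]
  have hfsurj : Function.Surjective f := fun a => by
    obtain ⟨x, hx⟩ := (hrange.symm ▸ a.2 : (a : MulAut A) ∈ (actHom iso).range)
    exact ⟨x, Subtype.ext hx⟩
  have hQcard : Nat.card Q = Nat.card A := Nat.card_congr iso.toEquiv
  have hmemQ : ∀ x, x ∈ Q ↔ f x = 1 := fun x => by rw [← hfker, MonoidHom.mem_ker]
  have hFcard : Nat.card F = Nat.card A * Nat.card T := by
    rw [← hQcard, ← Subgroup.card_mul_index Q]
    congr 1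
    rw [← hfker, Subgroup.index_ker, MonoidHom.range_eq_top_of_surjective f hfsurj,
      Subgroup.card_top]
  -- centralizers
  have hcomm_mem : ∀ x, ∀ z ∈ Q, z ≠ (1 : F) → x * z = z * x → x ∈ Q := by
    intro x z hz hz1 hxz
    rw [hmemQ]
    by_contra hx
    have h1 := hfree (f x) hx (iso ⟨z, hz⟩) (by
      rw [hfapp, actHom_apply]
      refine congrArg iso (Subtype.ext ?_)
      show x * z * x⁻¹ = z
      rw [hxz, mul_inv_cancel_right])
    exact hz1 (congrArg Subtype.val ((map_eq_one_iff iso iso.injective).1 h1))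
  have hfp : ∀ z : F, orderOf z = p → z ∈ Q := fun z hz => by
    rw [hmemQ, ← orderOf_eq_one_iff]
    rcases hp.eq_one_or_self_of_dvd _ (hz ▸ orderOf_map_dvd f z) with h | h
    · exact h
    · exact absurd (h ▸ orderOf_dvd_natCard (f z)) hpT
  -- the characters trivial on the subgroup
  have hcardT : Nat.card (T →* ℂˣ) = Nat.card T :=
    CommGroup.card_monoidHom_of_hasEnoughRootsOfUnity T ℂ
  let eT : Fin (Nat.card T) ≃ (T →* ℂˣ) :=
    (finCongr hcardT.symm).trans (Finite.equivFin (T →* ℂˣ)).symm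
  let lam : Fin (Nat.card T) → IrrCharacter F := fun j =>
    ⟨fun x => ((eT j).comp f x : ℂ), CfsgLib.Char.isIrrCharacter_linear ((eT j).comp f)⟩
  -- the induced characters
  let τ : Orb T → (Q →* ℂˣ) := fun q => (rep T q).comp iso.toMonoidHom
  have hind : ∀ q, Cfsg.IsIrrCharacter F (Cfsg.indFun Q fun y => (τ q y : ℂ)) := fun q => by
    refine CfsgLib.Char.isIrrCharacter_indFun_of_inertia Q _
      (CfsgLib.Char.isIrrCharacter_linear (τ q)) fun g hg => ?_
    rw [hmemQ]
    refine act_free T hfree (rep_ne_one T q) (MonoidHom.ext fun a => Units.ext ?_)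
    obtain ⟨y, rfl⟩ := iso.surjective a
    rw [act_apply, hfapp, actHom_apply]
    exact congrFun hg y
  let theta : Orb T → IrrCharacter F := fun q => ⟨_, hind q⟩
  have hthetaQ : ∀ q (y : Q), (theta q : F → ℂ) y = orbSum T (rep T q) (iso y) := by
    intro q y
    show Cfsg.indFun Q (fun y => (τ q y : ℂ)) y = _
    rw [indFun_normal_apply, orbSum]
    have h : ∀ x : F, conjFun Q (fun y => (τ q y : ℂ)) x y =
        (fun a : T => (rep T q ((a : MulAut A) (iso y)) : ℂ)) (f x) := fun x => by
      show (rep T q (iso _) : ℂ) = _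
      rw [← actHom_apply iso x y]
      rfl
    have h2 : ∑ x : F, conjFun Q (fun y => (τ q y : ℂ)) x y =
        (Nat.card Q : ℂ) * ∑ a : T, (rep T q ((a : MulAut A) (iso y)) : ℂ) := by
      rw [show Nat.card Q = Nat.card f.ker by rw [hfker],
        ← sum_comp_hom f hfsurj (fun a : T => (rep T q ((a : MulAut A) (iso y)) : ℂ))]
      exact Finset.sum_congr rfl fun x _ => h x
    rw [h2, ← mul_assoc, inv_mul_cancel₀ (Nat.cast_ne_zero.2 Nat.card_pos.ne'), one_mul]
  have hthetaOff : ∀ q, ∀ y ∉ Q, (theta q : F → ℂ) y = 0 := fun q y hy =>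
    CfsgLib.Char.indFun_eq_zero_of_normal Q _ hy
  have hlamQ : ∀ j, ∀ y ∈ Q, (lam j : F → ℂ) y = 1 := fun j y hy => by
    show ((eT j) (f y) : ℂ) = 1
    rw [(hmemQ y).1 hy, map_one, Units.val_one]
  have hinj : Function.Injective (Sum.elim lam theta) := by
    rintro (j | q) (k | q') h <;> simp only [Sum.elim_inl, Sum.elim_inr] at h
    · refine congrArg Sum.inl (eT.injective (MonoidHom.ext fun a => Units.ext ?_))
      obtain ⟨x, rfl⟩ := hfsurj a
      exact congrFun (congrArg Subtype.val h) x
    · exfalso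
      refine rep_ne_one T q' (MonoidHom.ext fun a => ?_)
      have h0 : ∀ y : A, orbSum T (rep T q') y = 1 := fun y => by
        obtain ⟨z, rfl⟩ := iso.surjective y
        rw [← hthetaQ, ← h, hlamQ j z z.2]
      have h2 := sum_conj_mul_orbSum T hfree q' q'
      rw [if_pos rfl, Finset.sum_congr rfl fun y _ => by rw [h0 y, mul_one],
        ← map_sum, sum_elem, if_neg (rep_ne_one T q'), map_zero] at h2
      exact absurd h2.symm (Nat.cast_ne_zero.2 Nat.card_pos.ne')
    · exfalso
      refine rep_ne_one T q (MonoidHom.ext fun a => ?_)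
      have h0 : ∀ y : A, orbSum T (rep T q) y = 1 := fun y => by
        obtain ⟨z, rfl⟩ := iso.surjective y
        rw [← hthetaQ, h, hlamQ k z z.2]
      have h2 := sum_conj_mul_orbSum T hfree q q
      rw [if_pos rfl, Finset.sum_congr rfl fun y _ => by rw [h0 y, mul_one],
        ← map_sum, sum_elem, if_neg (rep_ne_one T q), map_zero] at h2
      exact absurd h2.symm (Nat.cast_ne_zero.2 Nat.card_pos.ne')
    · refine congrArg Sum.inr ?_
      by_contra hne
      have h0 : ∀ y : A, orbSum T (rep T q) y = orbSum T (rep T q') y := fun y => by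
        obtain ⟨z, rfl⟩ := iso.surjective y
        rw [← hthetaQ, ← hthetaQ, h]
      have h1 := sum_conj_mul_orbSum T hfree q q
      have h2 := sum_conj_mul_orbSum T hfree q q'
      rw [if_pos rfl] at h1
      have h3 : ∑ y : A, conj (rep T q y : ℂ) * orbSum T (rep T q) y =
          ∑ y : A, conj (rep T q y : ℂ) * orbSum T (rep T q') y :=
        Finset.sum_congr rfl fun y _ => by rw [h0 y]
      rw [if_neg hne, ← h3, h1] at h2
      exact absurd h2 (Nat.cast_ne_zero.2 Nat.card_pos.ne')
  refine ⟨{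
    Q := Q, iso := iso, lam := lam, theta := theta, exhaust := ⟨hinj, fun χ => ?_⟩,
    lam_Q := hlamQ, lam_sum := fun y hy => ?_, theta_Q := hthetaQ, theta_off := hthetaOff,
    regular_off := fun y hy hdvd => ?_, singular_on := fun y hy hy1 hreg => ?_,
    cent_on := fun y hy hy1 => ?_, cent_off := fun y hy hdvd => ?_, card_eq := hFcard }⟩
  · by_contra hχ
    have h1 := CfsgLib.Char.sum_apply_one_sq (G := F)
    set S : Finset (IrrCharacter F) := Finset.univ.image (Sum.elim lam theta) with hS
    have hsplit : ∑ χ' ∈ Finset.univ \ S, (χ' : F → ℂ) 1 ^ 2 + ∑ χ' ∈ S, (χ' : F → ℂ) 1 ^ 2 =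
        (Nat.card F : ℂ) := by
      rw [Finset.sum_sdiff (Finset.subset_univ S)]
      convert h1
    clear h1
    rename' hsplit => h1
    rw [hS, Finset.sum_image hinj.injOn, Fintype.sum_sum_type, ← hS] at h1
    simp only [Sum.elim_inl, Sum.elim_inr] at h1
    have hth : ∀ q, (theta q : F → ℂ) 1 = (Nat.card T : ℂ) := fun q => by
      rw [show (1 : F) = ((1 : Q) : F) from rfl, hthetaQ, map_one, orbSum_apply_one]
    have hl : ∀ j, (lam j : F → ℂ) 1 = 1 := fun j => hlamQ j 1 Q.one_mem
    simp only [hl, hth] at h1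
    rw [hFcard, ← card_orb_mul T hfree] at h1
    simp only [one_pow, Finset.sum_const, Finset.card_univ, Fintype.card_fin, nsmul_eq_mul,
      mul_one, Nat.card_eq_fintype_card (α := Orb T)] at h1
    have hrest : ∑ χ' ∈ Finset.univ \ S, (χ' : F → ℂ) 1 ^ 2 = 0 := by
      push_cast at h1
      linear_combination h1
    have hdeg : ∀ χ' : IrrCharacter F, (χ' : F → ℂ) 1 ^ 2 =
        ((CfsgLib.Char.degree (χ' : F → ℂ) ^ 2 : ℕ) : ℂ) := fun χ' => by
      push_cast
      rw [CfsgLib.Char.IsCharacter.degree_cast (CfsgLib.Char.IsIrrCharacter.isCharacter χ'.2)]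
    rw [Finset.sum_congr rfl fun χ' _ => hdeg χ', ← Nat.cast_sum, Nat.cast_eq_zero,
      Finset.sum_eq_zero_iff] at hrest
    have := hrest χ (Finset.mem_sdiff.2 ⟨Finset.mem_univ _, fun hm => by
      obtain ⟨s, -, hs⟩ := Finset.mem_image.1 hm
      exact hχ ⟨s, hs⟩⟩)
    exact (pow_ne_zero 2 (CfsgLib.Char.IsIrrCharacter.degree_pos χ.2).ne') this
  · have hne : f y ≠ 1 := fun h => hy ((hmemQ y).2 h)
    haveI := Fintype.ofFinite (T →* ℂˣ)
    show ∑ j, (eT j (f y) : ℂ) = 0
    rw [eT.sum_comp fun ψ => (ψ (f y) : ℂ), sum_dual, if_neg hne]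
  · set z := y ^ (orderOf y / p) with hz
    have hoz : orderOf z = p := orderOf_pow_orderOf_div (orderOf_pos y).ne' hdvd
    have hz1 : z ≠ 1 := fun h => by rw [h, orderOf_one] at hoz; exact hp.one_lt.ne hoz
    exact hy (hcomm_mem y z (hfp z hoz) hz1 (by rw [hz, ← pow_succ, ← pow_succ']))
  · obtain ⟨n, hn⟩ := hA
    have h : orderOf y ∣ p ^ n := by
      rw [← hn, ← hQcard, ← Subgroup.orderOf_mk y hy]
      exact orderOf_dvd_natCard _
    obtain ⟨k, -, hk⟩ := (Nat.dvd_prime_pow hp).1 h
    refine hreg ?_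
    rcases Nat.eq_zero_or_pos k with h0 | h0
    · exact absurd (orderOf_eq_one_iff.1 (by rw [hk, h0, pow_zero])) hy1
    · rw [hk]
      exact dvd_pow_self p h0.ne'
  · rw [← hQcard, show Subgroup.centralizer ({y} : Set F) = Q from le_antisymm
      (fun x hx => hcomm_mem x y hy hy1 (Subgroup.mem_centralizer_singleton_iff.1 hx))
      (fun x hx => Subgroup.mem_centralizer_singleton_iff.2
        (Subgroup.mem_centralizer_iff.1 (hC.symm ▸ hy : y ∈ Subgroup.centralizer (Q : Set F))
          x hx))]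
  · haveI : Fact p.Prime := ⟨hp⟩
    obtain ⟨z, hz⟩ := exists_prime_orderOf_dvd_card' (G := Subgroup.centralizer ({y} : Set F)) p hdvd
    have hz' : orderOf (z : F) = p := by rw [Subgroup.orderOf_coe, hz]
    have hz1 : (z : F) ≠ 1 := fun h => by rw [h, orderOf_one] at hz'; exact hp.one_lt.ne hz'
    exact hy (hcomm_mem y z (hfp z hz') hz1 (Subgroup.mem_centralizer_singleton_iff.1 z.2).symm)

end CfsgLib.PerfIso
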