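import Mathlib

/-!
Integral vectors with the inner products of the exceptional columns.
-/

set_option autoImplicit false
open scoped Classical

namespace CfsgLib.PerfIso.GramShape

variable {K Q : Type*} [Fintype K] [Fintype Q]

theorem sq_pos_of_ne {x : ℤ} (h : x ≠ 0) : 1 ≤ x ^ 2 := by
  rcases Int.lt_or_gt_of_ne h with h | h <;> nlinarith

/-- A norm two vector orthogonal to a positive one. -/
theorem exists_sub (x : K → ℤ) (f : K → ℤ) (hf : ∀ k, 0 < f k) (hn : ∑ k, x k ^ 2 = 2)
    (ho : ∑ k, x k * f k = 0) :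
    ∃ a b, a ≠ b ∧ ∀ k, x k = (if k = a then (1 : ℤ) else 0) - (if k = b then 1 else 0) := by
  obtain ⟨a, ha⟩ : ∃ a, 0 < x a := by
    by_contra hcon
    push Not at hcon
    have h0 := (Finset.sum_eq_zero_iff_of_nonpos fun k _ =>
      mul_nonpos_of_nonpos_of_nonneg (hcon k) (hf k).le).1 ho
    have hz : ∀ k, x k = 0 := fun k =>
      (mul_eq_zero.1 (h0 k (Finset.mem_univ k))).resolve_right (hf k).ne'
    simp [hz] at hn
  obtain ⟨b, hb⟩ : ∃ b, x b < 0 := by
    by_contra hcon
    push Not at hcon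
    have h0 := (Finset.sum_eq_zero_iff_of_nonneg fun k _ => mul_nonneg (hcon k) (hf k).le).1 ho
    exact ha.ne' ((mul_eq_zero.1 (h0 a (Finset.mem_univ a))).resolve_right (hf a).ne')
  have hab : a ≠ b := fun h => by subst h; omega
  rw [← Finset.add_sum_erase _ _ (Finset.mem_univ a), ← Finset.add_sum_erase _ _
    (Finset.mem_erase.2 ⟨hab.symm, Finset.mem_univ b⟩)] at hn
  have hrest : 0 ≤ ∑ k ∈ (Finset.univ.erase a).erase b, x k ^ 2 :=
    Finset.sum_nonneg fun k _ => sq_nonneg _
  have h1 := sq_pos_of_ne ha.ne'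
  have h2 := sq_pos_of_ne hb.ne
  have hr : ∑ k ∈ (Finset.univ.erase a).erase b, x k ^ 2 = 0 := by omega
  have hxa : x a = 1 := by nlinarith
  have hxb : x b = -1 := by nlinarith
  refine ⟨a, b, hab, fun k => ?_⟩
  by_cases hka : k = a
  · subst hka; simp [hxa, hab]
  by_cases hkb : k = b
  · subst hkb; simp [hxb, hka]
  have := (Finset.sum_eq_zero_iff_of_nonneg fun k _ => sq_nonneg (x k)).1 hr k
    (Finset.mem_erase.2 ⟨hkb, Finset.mem_erase.2 ⟨hka, Finset.mem_univ k⟩⟩)
  simp [hka, hkb, pow_eq_zero_iff two_ne_zero |>.1 this]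

theorem inner_sub {a b c d : K}
    (h : ∑ k, ((if k = a then (1 : ℤ) else 0) - (if k = b then 1 else 0)) *
      ((if k = c then (1 : ℤ) else 0) - (if k = d then 1 else 0)) = 1) (hab : a ≠ b) (hcd : c ≠ d) :
    (a = c ∧ b ≠ d) ∨ (b = d ∧ a ≠ c) := by
  simp only [sub_mul, Finset.sum_sub_distrib, ite_mul, one_mul, zero_mul, Finset.sum_ite_eq',
    Finset.mem_univ, if_true] at h
  by_cases h1 : a = c <;> by_cases h2 : b = d
  · subst h1 h2
    simp [hab, hab.symm] at h
  · exact Or.inl ⟨h1, h2⟩
  · exact Or.inr ⟨h2, h1⟩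
  · exfalso
    simp [h1, h2] at h
    split_ifs at h <;> omega

/-- The shape: a common vector plus a signed unit vector. -/
theorem exists_shape (f : K → ℤ) (hf : ∀ k, 0 < f k) (w : Q → K → ℤ) (e : ℕ)
    (hgram : ∀ O P, ∑ k, w O k * w P k = (if O = P then 1 else 0) + (e : ℤ))
    (hreg : ∀ O, ∑ k, w O k * f k = 0) (hrow : ∀ k, ∃ O, w O k ≠ 0)
    (hk : e + Fintype.card Q ≤ Fintype.card K) (hQ : Nonempty Q) :
    Fintype.card K = e + Fintype.card Q ∧
      ∃ (ψ : Q → K) (v : K → ℤ) (s : ℤ), Function.Injective ψ ∧ (s = 1 ∨ s = -1) ∧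
        (∀ O, v (ψ O) = 0) ∧ (∀ k, k ∉ Set.range ψ → v k = 1 ∨ v k = -1) ∧
        ∀ O k, w O k = v k + if k = ψ O then s else 0 := by
  obtain ⟨O₀⟩ := hQ
  -- finishing from a shape vanishing on the image
  have hfin : ∀ (ψ : Q → K) (v : K → ℤ) (s : ℤ), Function.Injective ψ → (s = 1 ∨ s = -1) →
      (∀ O, v (ψ O) = 0) → (∀ O k, w O k = v k + if k = ψ O then s else 0) →
      Fintype.card K = e + Fintype.card Q ∧
        ∃ (ψ : Q → K) (v : K → ℤ) (s : ℤ), Function.Injective ψ ∧ (s = 1 ∨ s = -1) ∧
          (∀ O, v (ψ O) = 0) ∧ (∀ k, k ∉ Set.range ψ → v k = 1 ∨ v k = -1) ∧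
          ∀ O k, w O k = v k + if k = ψ O then s else 0 := by
    intro ψ v s hψ hs hv hw
    have hs2 : s * s = 1 := by rcases hs with rfl | rfl <;> norm_num
    have hterm : ∀ k, w O₀ k * w O₀ k = v k ^ 2 + if k = ψ O₀ then (1 : ℤ) else 0 := fun k => by
      rw [hw]
      split_ifs with h
      · subst h
        rw [hv, zero_add, hs2]
        norm_num
      · ring
    have hv2 : ∑ k, v k ^ 2 = e := by
      have h := hgram O₀ O₀
      rw [Finset.sum_congr rfl fun k _ => hterm k, Finset.sum_add_distrib, Finset.sum_ite_eq',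
        if_pos (Finset.mem_univ _), if_pos rfl] at h
      omega
    set C : Finset K := Finset.univ \ Finset.univ.image ψ with hC
    have hnz : ∀ k ∈ C, v k ≠ 0 := by
      intro k hk h0
      obtain ⟨O, hO⟩ := hrow k
      refine hO ?_
      rw [hw, h0, zero_add, if_neg]
      rintro rfl
      simp [hC] at hk
    have hCcard : C.card + Fintype.card Q = Fintype.card K := by
      have := Finset.card_sdiff_add_card_eq_card (Finset.subset_univ (Finset.univ.image ψ))
      rw [← hC, Finset.card_image_of_injective _ hψ, Finset.card_univ, Finset.card_univ] at this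
      exact this
    have hle1 : (C.card : ℤ) ≤ ∑ k ∈ C, v k ^ 2 := by
      have := Finset.card_nsmul_le_sum C (fun k => v k ^ 2) 1 fun k hk => sq_pos_of_ne (hnz k hk)
      simpa using this
    have hle2 : ∑ k ∈ C, v k ^ 2 ≤ e := hv2 ▸
      Finset.sum_le_sum_of_subset_of_nonneg (Finset.subset_univ C) fun k _ _ => sq_nonneg _
    have hkey : Fintype.card K = e + Fintype.card Q := by omega
    refine ⟨hkey, ψ, v, s, hψ, hs, hv, fun k hkψ => ?_, hw⟩
    have hkC : k ∈ C := by
      simp only [hC, Finset.mem_sdiff, Finset.mem_univ, Finset.mem_image, true_and, not_exists]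
      exact fun O hO => hkψ ⟨O, hO⟩
    have hone := (Finset.sum_eq_sum_iff_of_le (f := fun _ => (1 : ℤ)) (g := fun k => v k ^ 2)
      fun j hj => sq_pos_of_ne (hnz j hj)).1 (by
        simp only [Finset.sum_const, nsmul_eq_mul, mul_one]
        omega) k hkC
    exact sq_eq_one_iff.1 hone.symm
  by_cases hq : ∀ O : Q, O = O₀
  · -- a single vector
    have hQ1 : Fintype.card Q = 1 := Fintype.card_eq_one_iff.2 ⟨O₀, hq⟩
    have hne : ∀ k, w O₀ k ≠ 0 := fun k => by
      obtain ⟨O, hO⟩ := hrow k
      exact hq O ▸ hO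
    have hnorm : ∑ k, w O₀ k ^ 2 = 1 + e := by
      simp only [sq]
      rw [hgram, if_pos rfl]
    have hle1 : (Fintype.card K : ℤ) ≤ ∑ k, w O₀ k ^ 2 := by
      have := Finset.card_nsmul_le_sum Finset.univ (fun k => w O₀ k ^ 2) 1
        fun k _ => sq_pos_of_ne (hne k)
      simpa using this
    have hone : ∀ k, w O₀ k = 1 ∨ w O₀ k = -1 := fun k => sq_eq_one_iff.1
      ((Finset.sum_eq_sum_iff_of_le (f := fun _ => (1 : ℤ)) (g := fun k => w O₀ k ^ 2)
        fun j _ => sq_pos_of_ne (hne j)).1 (by simp; omega) k (Finset.mem_univ k)).symm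
    obtain ⟨a⟩ : Nonempty K := Fintype.card_pos_iff.1 (by omega)
    refine hfin (fun _ => a) (fun k => if k = a then 0 else w O₀ k) (w O₀ a)
      (fun O P _ => (hq O).trans (hq P).symm) (hone a) (fun O => if_pos rfl) fun O k => ?_
    rw [hq O]
    by_cases hka : k = a <;> simp [hka]
  push Not at hq
  obtain ⟨O₁, hO₁⟩ := hq
  -- differences
  have hd : ∀ j, j ≠ O₀ → ∃ a b, a ≠ b ∧
      ∀ k, w O₀ k - w j k = (if k = a then (1 : ℤ) else 0) - (if k = b then 1 else 0) := by
    intro j hj
    refine exists_sub _ f hf ?_ ?_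
    · simp only [sq, sub_mul, mul_sub, Finset.sum_sub_distrib, hgram, if_neg hj,
        if_neg hj.symm, if_true]
      ring
    · simp only [sub_mul, Finset.sum_sub_distrib, hreg, sub_self]
  haveI : Nonempty K := Fintype.card_pos_iff.1 (by
    have : 0 < Fintype.card Q := Fintype.card_pos_iff.2 ⟨O₀⟩
    omega)
  choose! a b hab hdiff using hd
  have hpair : ∀ i j, i ≠ O₀ → j ≠ O₀ → i ≠ j → (a i = a j ∧ b i ≠ b j) ∨ (b i = b j ∧ a i ≠ a j) := by
    intro i j hi hj hij
    refine inner_sub ?_ (hab i hi) (hab j hj)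
    simp only [← hdiff i hi, ← hdiff j hj, sub_mul, mul_sub, Finset.sum_sub_distrib, hgram,
      if_neg hi, if_neg hj.symm, if_neg hij, if_true]
    ring
  have hall : (∀ j, j ≠ O₀ → a j = a O₁) ∨ (∀ j, j ≠ O₀ → b j = b O₁) := by
    by_contra hcon
    push Not at hcon
    obtain ⟨⟨i, hi, hai⟩, ⟨j, hj, hbj⟩⟩ := hcon
    have h1 := (hpair i O₁ hi hO₁ fun h => hai (h ▸ rfl)).resolve_left fun h => hai h.1
    have h2 := (hpair j O₁ hj hO₁ fun h => hbj (h ▸ rfl)).resolve_right fun h => hbj h.1
    have h3 : i ≠ j := fun h => hbj (h ▸ h1.1)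
    rcases hpair i j hi hj h3 with h | h
    · exact hai (h.1.trans h2.1)
    · exact hbj (h.1.symm.trans h1.1)
  -- a shape with injective map
  obtain ⟨ψ, v, s, hψ, hs, hw⟩ : ∃ (ψ : Q → K) (v : K → ℤ) (s : ℤ), Function.Injective ψ ∧
      (s = 1 ∨ s = -1) ∧ ∀ O k, w O k = v k + if k = ψ O then s else 0 := by
    rcases hall with hA | hB
    · refine ⟨fun O => if O = O₀ then a O₁ else b O,
        fun k => w O₀ k - if k = a O₁ then 1 else 0, 1, fun i j h => ?_, Or.inl rfl, fun O k => ?_⟩
      · simp only at h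
        by_cases hi : i = O₀ <;> by_cases hj : j = O₀
        · rw [hi, hj]
        · rw [if_pos hi, if_neg hj, ← hA j hj] at h
          exact absurd h (hab j hj)
        · rw [if_neg hi, if_pos hj, ← hA i hi] at h
          exact absurd h.symm (hab i hi)
        · rw [if_neg hi, if_neg hj] at h
          by_contra hij
          rcases hpair i j hi hj hij with h' | h'
          · exact h'.2 h
          · exact h'.2 ((hA i hi).trans (hA j hj).symm)
      · by_cases hO : O = O₀
        · subst hO; simp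
        · have := hdiff O hO k
          rw [hA O hO] at this
          simp only [if_neg hO]
          linarith
    · refine ⟨fun O => if O = O₀ then b O₁ else a O,
        fun k => w O₀ k + if k = b O₁ then 1 else 0, -1, fun i j h => ?_, Or.inr rfl, fun O k => ?_⟩
      · simp only at h
        by_cases hi : i = O₀ <;> by_cases hj : j = O₀
        · rw [hi, hj]
        · rw [if_pos hi, if_neg hj, ← hB j hj] at h
          exact absurd h.symm (hab j hj)
        · rw [if_neg hi, if_pos hj, ← hB i hi] at h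
          exact absurd h (hab i hi)
        · rw [if_neg hi, if_neg hj] at h
          by_contra hij
          rcases hpair i j hi hj hij with h' | h'
          · exact h'.2 ((hB i hi).trans (hB j hj).symm)
          · exact h'.2 h
      · by_cases hO : O = O₀
        · subst hO
          by_cases hk : k = b O₁ <;> simp [hk]
        · have := hdiff O hO k
          rw [hB O hO] at this
          by_cases hk : k = a O <;> simp [hO, hk] at this ⊢ <;> linarith
  have hs2 : s * s = 1 := by rcases hs with rfl | rfl <;> norm_num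
  -- the value on the image
  have hdiag : ∀ O, ∑ k, v k ^ 2 + 2 * s * v (ψ O) = e := by
    intro O
    have h := hgram O O
    have hterm : ∀ k, w O k * w O k =
        v k ^ 2 + (if k = ψ O then 2 * s * v k + 1 else 0) := fun k => by
      rw [hw]
      split_ifs
      · linear_combination hs2
      · ring
    rw [Finset.sum_congr rfl fun k _ => hterm k, Finset.sum_add_distrib, Finset.sum_ite_eq',
      if_pos (Finset.mem_univ _), if_pos rfl] at h
    linarith
  by_cases hz : v (ψ O₀) = 0
  · exact hfin ψ v s hψ hs (fun O => by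
      have h1 := hdiag O
      have h2 := hdiag O₀
      rw [hz] at h2
      rcases hs with rfl | rfl <;> omega) hw
  -- otherwise there are exactly two vectors
  have hc : ∀ O, v (ψ O) = v (ψ O₀) := fun O => by
    have h1 := hdiag O
    have h2 := hdiag O₀
    rcases hs with rfl | rfl <;> omega
  set c := v (ψ O₀) with hcdef
  have hlow : (e : ℤ) + Fintype.card Q * c ^ 2 ≤ ∑ k, v k ^ 2 := by
    have him : ∑ k ∈ Finset.univ.image ψ, v k ^ 2 = (Fintype.card Q : ℤ) * c ^ 2 := by
      rw [Finset.sum_image hψ.injOn]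
      simp only [hc, Finset.sum_const, Finset.card_univ, nsmul_eq_mul]
    rw [← Finset.sum_sdiff (Finset.subset_univ (Finset.univ.image ψ)), him]
    refine add_le_add ?_ le_rfl
    have hnz : ∀ k ∈ Finset.univ \ Finset.univ.image ψ, v k ≠ 0 := by
      intro k hk h0
      obtain ⟨O, hO⟩ := hrow k
      refine hO ?_
      rw [hw, h0, zero_add, if_neg]
      rintro rfl
      simp at hk
    have h1 := Finset.card_nsmul_le_sum _ (fun k => v k ^ 2) 1 fun k hk => sq_pos_of_ne (hnz k hk)
    have h2 := Finset.card_sdiff_add_card_eq_card (Finset.subset_univ (Finset.univ.image ψ))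
    rw [Finset.card_image_of_injective _ hψ, Finset.card_univ, Finset.card_univ] at h2
    simp only [nsmul_eq_mul, mul_one] at h1
    omega
  have hq2 : 2 ≤ Fintype.card Q := Fintype.one_lt_card_iff.2 ⟨O₁, O₀, hO₁⟩
  have hbound : (Fintype.card Q : ℤ) * c ^ 2 + 2 * s * c ≤ 0 := by
    have := hdiag O₀
    linarith
  have hq2' : (2 : ℤ) ≤ Fintype.card Q := by exact_mod_cast hq2
  have hc1 : c = -s ∧ Fintype.card Q = 2 := by
    have hsc : s * c = -1 := by
      rcases hs with rfl | rfl
      · have : c < 0 := by nlinarith [sq_pos_of_ne hz]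
        nlinarith
      · have : 0 < c := by nlinarith [sq_pos_of_ne hz]
        nlinarith
    refine ⟨by linear_combination s * hsc - c * hs2, ?_⟩
    have hcc : c ^ 2 = 1 := by linear_combination (s * c - 1) * hsc - c ^ 2 * hs2
    rw [hcc, mul_assoc, hsc] at hbound
    omega
  obtain ⟨hcs, hQ2⟩ := hc1
  have huniv : ∀ O, O = O₀ ∨ O = O₁ := by
    intro O
    by_contra hcon
    push Not at hcon
    have h3 : ({O, O₀, O₁} : Finset Q).card = 3 := by
      rw [Finset.card_insert_of_notMem (by simp [hcon.1, hcon.2]),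
        Finset.card_insert_of_notMem (by simp [hO₁.symm]), Finset.card_singleton]
    have := Finset.card_le_univ ({O, O₀, O₁} : Finset Q)
    omega
  let σ : Q ≃ Q := Equiv.swap O₀ O₁
  have hne01 : ψ O₀ ≠ ψ O₁ := fun h => hO₁ (hψ h).symm
  refine hfin (ψ ∘ σ) (fun k => if k = ψ O₀ ∨ k = ψ O₁ then 0 else v k) (-s)
    (hψ.comp σ.injective) (by rcases hs with rfl | rfl <;> simp)
    (fun O => if_pos (by rcases huniv (σ O) with h | h <;> simp [h])) fun O k => ?_
  rw [hw]
  rcases huniv O with rfl | rfl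
  · simp only [Function.comp_apply, σ, Equiv.swap_apply_left]
    by_cases h0 : k = ψ O
    · subst h0
      simp [hne01, hcs, ← hcdef]
    · by_cases h1 : k = ψ O₁
      · subst h1; simp [h0, hc, hcs]
      · simp [h0, h1]
  · simp only [Function.comp_apply, σ, Equiv.swap_apply_right]
    by_cases h0 : k = ψ O
    · subst h0
      simp [hne01.symm, hc, hcs]
    · by_cases h1 : k = ψ O₀
      · subst h1; simp [h0, hcs, ← hcdef]
      · simp [h0, h1]

end CfsgLib.PerfIso.GramShape
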