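import Cfsg.Agent.Lib.PerfIso.Coherence
import Cfsg.Agent.Lib.Char.Exceptional

/-!
The integrality of the weighted products of columns, from generalized characters with prescribed
values on the sections.
-/

set_option autoImplicit false
set_option maxHeartbeats 1600000
set_option synthInstance.maxHeartbeats 400000

open Cfsg CfsgLib.Blk83.FreeOrbit CfsgLib.BlockRank
open CfsgLib.BlockRank.Watanabe (SecIdx)
open scoped ComplexConjugate IsMulCommutative Classical

namespace CfsgLib.PerfIso

universe u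

variable {G : Type u} [Group G] [Finite G] {p : ℕ} [Fact p.Prime] {M : Ideal Cfsg.AlgInt}

theorem regPair_swap {H : Type*} [Group H] [Fintype H] (f g : H → ℂ) :
    regPair p f g = conj (regPair p g f) := by
  simp only [regPair, map_sum, map_mul, Complex.conj_conj]
  exact Finset.sum_congr rfl fun s _ => mul_comm _ _

variable [M.IsMaximal] {P : Subgroup G} [IsMulCommutative P]
  {e : MonoidAlgebra (CfsgLib.Blocks.ResField M) G} {ι : Type u} [Fintype ι]

/-- A generalized character vanishing on regular elements, with values weighted at the sections,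
gives integers. -/
theorem exists_int_weighted (hM : Cfsg.IsPModular p M) {B : Set (Cfsg.IrrCharacter G)}
    (hB : Cfsg.IsPBlock M B) (S : LocalSections p M B P e ι) {col : ι → Cfsg.IrrCharacter G → ℂ}
    {φ : ∀ i, Subgroup.centralizer ({S.x i} : Set G) → ℂ}
    (hcol : ∀ i, IsColumn p M B (S.x i) (S.b i) (col i) (φ i)) {F : G → ℂ} (w : SecIdx G → ℂ)
    {χ ψ : Cfsg.IrrCharacter G} (hψ : ψ ∈ B) (hF : Cfsg.IsGeneralizedCharacter G F)
    (hFc : Cfsg.IsClassFunction G F) (hreg : ∀ g : G, Cfsg.IsPRegular p g → F g = 0)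
    (hsec : ∀ x ∈ S.X, x ≠ 1 → ∀ s : Subgroup.centralizer ({x} : Set G), Cfsg.IsPRegular p s →
      F (x * s) = ∑ᶠ b ∈ {b : Set (Cfsg.IrrCharacter (Subgroup.centralizer ({x} : Set G))) |
          Cfsg.IsInducedBlock M (Subgroup.centralizer ({x} : Set G)) b B},
        w ⟨x, b⟩ * Cfsg.blockPart b
          (fun c : Subgroup.centralizer ({x} : Set G) => (χ : G → ℂ) (x * c)) s) :
    ∃ z : ℤ, ((p ^ Cfsg.blockDefect p B : ℕ) : ℂ)⁻¹ *
      ∑ i, w ⟨S.x i, S.b i⟩ * (col i χ * conj (col i ψ)) = z := by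
  haveI := Fintype.ofFinite G
  obtain ⟨z, hz⟩ := CfsgLib.CharExc.exists_int_classInner hF ψ.2
  refine ⟨z, ?_⟩
  rw [← hz, Cfsg.classInner]
  have hcl : Cfsg.IsClassFunction G fun g => F g * conj ((ψ : G → ℂ) g) := fun g h => by
    show _ * _ = _ * _
    rw [hFc g h, CfsgLib.Char.IsIrrCharacter.isClassFunction ψ.2 g h]
  rw [sum_eq_sum_sectionSum (p := p) hcl S.X S.pelem S.rep, Finset.mul_sum, Finset.mul_sum]
  -- the term of a subsection
  let T : SecIdx G → ℂ := fun s =>
    haveI := Fintype.ofFinite (Subgroup.centralizer ({s.1} : Set G))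
    (Nat.card G : ℂ)⁻¹ * ((Nat.card {y : G // IsConj s.1 y} : ℂ) * (w s * regPair p
      (Cfsg.blockPart s.2 fun c : Subgroup.centralizer ({s.1} : Set G) => (χ : G → ℂ) (s.1 * c))
      (Cfsg.blockPart s.2 fun c : Subgroup.centralizer ({s.1} : Set G) => (ψ : G → ℂ) (s.1 * c))))
  let K : ∀ x : G, Finset (Set (Cfsg.IrrCharacter (Subgroup.centralizer ({x} : Set G)))) :=
    fun x => (Set.toFinite {b : Set (Cfsg.IrrCharacter (Subgroup.centralizer ({x} : Set G))) |
      Cfsg.IsInducedBlock M (Subgroup.centralizer ({x} : Set G)) b B}).toFinset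
  -- every term of the right-hand side
  have hterm : ∀ x ∈ S.X, (Nat.card G : ℂ)⁻¹ * ((Nat.card {y : G // IsConj x y} : ℂ) *
      sectionSum p (fun g => F g * conj ((ψ : G → ℂ) g)) x) =
        if x = 1 then 0 else ∑ b ∈ K x, T ⟨x, b⟩ := by
    intro x hx
    haveI := Fintype.ofFinite (Subgroup.centralizer ({x} : Set G))
    rw [sectionSum_eq_sum_regSet _ rfl]
    by_cases hx1 : x = 1
    · rw [if_pos hx1]
      refine mul_eq_zero_of_right _ (mul_eq_zero_of_right _ (Finset.sum_eq_zero fun s hs => ?_))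
      rw [hreg (x * (s : G)) (by
        have h := (Finset.mem_filter.1 hs).2
        rw [mul_eq_right.2 hx1]
        rwa [Cfsg.IsPRegular, Subgroup.orderOf_coe]), zero_mul]
    · rw [if_neg hx1]
      have hval : ∀ s ∈ regSet (G := Subgroup.centralizer ({x} : Set G)) p,
          F (x * (s : G)) * conj ((ψ : G → ℂ) (x * (s : G))) =
          ∑ b ∈ K x, w ⟨x, b⟩ * (Cfsg.blockPart b
            (fun c : Subgroup.centralizer ({x} : Set G) => (χ : G → ℂ) (x * c)) s *
              conj ((ψ : G → ℂ) (x * (s : G)))) := fun s hs => by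
        rw [hsec x hx hx1 s (Finset.mem_filter.1 hs).2,
          finsum_mem_eq_finite_toFinset_sum _ (Set.toFinite _), Finset.sum_mul]
        exact Finset.sum_congr rfl fun b _ => mul_assoc _ _ _
      rw [Finset.sum_congr rfl hval, Finset.sum_comm, Finset.mul_sum, Finset.mul_sum]
      refine Finset.sum_congr rfl fun b hb => ?_
      rw [Set.Finite.mem_toFinset, Set.mem_setOf_eq] at hb
      simp only [T]
      rw [← Finset.mul_sum]
      refine congrArg _ (congrArg _ (congrArg _ ?_))
      show regPair p _ (fun c : Subgroup.centralizer ({x} : Set G) => (ψ : G → ℂ) (x * c)) = _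
      rw [regPair_swap, regPair_blockPart hM hb.1 (isClassFunction_translate rfl ψ),
        ← regPair_swap]
      congr! 1
  rw [Finset.sum_congr rfl hterm, Finset.sum_ite, Finset.sum_const_zero, zero_add]
  symm
  rw [Finset.sum_sigma' (S.X.filter fun x => ¬ x = 1) K fun x b => T ⟨x, b⟩]
  have hp : ((p ^ Cfsg.blockDefect p B : ℕ) : ℂ) ≠ 0 :=
    Nat.cast_ne_zero.2 (pow_ne_zero _ (Fact.out : p.Prime).ne_zero)
  symm
  refine Finset.sum_bij (fun i _ => (⟨S.x i, S.b i⟩ : SecIdx G)) (fun i _ => ?_)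
    (fun i _ j _ h => S.idx_injective h) (fun s hs => ?_) fun i _ => ?_
  · exact Finset.mem_sigma.2 ⟨Finset.mem_filter.2 ⟨S.mem_X i, S.x_ne_one i⟩,
      (Set.Finite.mem_toFinset _).2 (S.induced i)⟩
  · obtain ⟨hs1, hs2⟩ := Finset.mem_sigma.1 hs
    rw [Set.Finite.mem_toFinset, Set.mem_setOf_eq] at hs2
    obtain ⟨i, hi⟩ := S.complete s.1 (Finset.mem_filter.1 hs1).1 (Finset.mem_filter.1 hs1).2 s.2 hs2
    exact ⟨i, Finset.mem_univ _, hi⟩
  · haveI := Fintype.ofFinite (Subgroup.centralizer ({S.x i} : Set G))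
    haveI := Fintype.ofFinite B
    show _ = T ⟨S.x i, S.b i⟩
    simp only [T]
    -- the norm of the function of the section
    set N : ℂ := ∑ s ∈ regSet (G := Subgroup.centralizer ({S.x i} : Set G)) p, φ i s * conj (φ i s)
      with hN
    have hreg' : ∀ θ θ' : Cfsg.IrrCharacter G, regPair p
        (Cfsg.blockPart (S.b i) fun c : Subgroup.centralizer ({S.x i} : Set G) =>
          (θ : G → ℂ) (S.x i * c))
        (Cfsg.blockPart (S.b i) fun c : Subgroup.centralizer ({S.x i} : Set G) =>
          (θ' : G → ℂ) (S.x i * c)) = col i θ * conj (col i θ') * N := by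
      intro θ θ'
      rw [regPair, hN, Finset.mul_sum]
      refine Finset.sum_congr rfl fun s hs => ?_
      rw [(hcol i).value θ s (Finset.mem_filter.1 hs).2,
        (hcol i).value θ' s (Finset.mem_filter.1 hs).2, map_mul]
      ring
    have hnorm : ((p ^ Cfsg.blockDefect p B : ℕ) : ℂ) * N =
        (Nat.card (Subgroup.centralizer ({S.x i} : Set G)) : ℂ) := by
      have h := sum_regNorm_translate_block hM (C := Subgroup.centralizer ({S.x i} : Set G)) rfl
        (S.pelem _ (S.mem_X i)) (S.induced i).1 (S.induced i)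
      rw [S.rankOne i, Nat.cast_one, mul_one] at h
      have hn := (hcol i).norm
      rw [finsum_mem_eq_toFinset_sum] at hn
      rw [← h, ← hn, Finset.sum_mul]
      refine Finset.sum_congr rfl fun θ _ => ?_
      rw [← hreg' θ θ, regNorm_eq, regPair]
    have hcard : (Nat.card {y : G // IsConj (S.x i) y} : ℂ) *
        (Nat.card (Subgroup.centralizer ({S.x i} : Set G)) : ℂ) = Nat.card G := by
      rw [← Nat.cast_mul, CfsgLib.Char.card_isConj_mul_card_centralizer]
    calc ((p ^ Cfsg.blockDefect p B : ℕ) : ℂ)⁻¹ * (w ⟨S.x i, S.b i⟩ * (col i χ * conj (col i ψ)))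
        = (Nat.card G : ℂ)⁻¹ * ((Nat.card {y : G // IsConj (S.x i) y} : ℂ) *
            (w ⟨S.x i, S.b i⟩ * (col i χ * conj (col i ψ) * N))) := by
          have hG : (Nat.card G : ℂ) ≠ 0 := Nat.cast_ne_zero.2 Nat.card_pos.ne'
          field_simp
          rw [← hcard, ← hnorm]
          ring
      _ = _ := by
          rw [← hreg' χ ψ]
          congr!

end CfsgLib.PerfIso
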