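import Cfsg.Agent.Lib.PerfIso.Coherence

/-!
The perfect isometry between a block with free inertial action and a Frobenius group.
-/

set_option autoImplicit false
set_option maxHeartbeats 1600000
set_option synthInstance.maxHeartbeats 400000

open Cfsg CfsgLib.Blk83.FreeOrbit CfsgLib.BlockReg
open CfsgLib.BlockRank.Watanabe (SecIdx)
open scoped ComplexConjugate IsMulCommutative Classical

namespace CfsgLib.PerfIso

universe u v

/-- The characters of a group of Frobenius shape with kernel isomorphic to `A` and complement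
acting as `T`. -/
structure FrobModel (F : Type v) [Group F] (p : ℕ) {A : Type u} [CommGroup A]
    (T : Subgroup (MulAut A)) [Fintype T] where
  Q : Subgroup F
  iso : Q ≃* A
  lam : Fin (Nat.card T) → IrrCharacter F
  theta : Orb T → IrrCharacter F
  exhaust : Function.Bijective (Sum.elim lam theta)
  lam_Q : ∀ j, ∀ y ∈ Q, (lam j : F → ℂ) y = 1
  lam_sum : ∀ y ∉ Q, ∑ j, (lam j : F → ℂ) y = 0
  theta_Q : ∀ q (y : Q), (theta q : F → ℂ) y = orbSum T (rep T q) (iso y)
  theta_off : ∀ q, ∀ y ∉ Q, (theta q : F → ℂ) y = 0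
  regular_off : ∀ y ∉ Q, IsPRegular p y
  singular_on : ∀ y ∈ Q, y ≠ (1 : F) → ¬ IsPRegular p y
  cent_on : ∀ y ∈ Q, y ≠ (1 : F) → Nat.card (Subgroup.centralizer ({y} : Set F)) = Nat.card A
  cent_off : ∀ y ∉ Q, ¬ p ∣ Nat.card (Subgroup.centralizer ({y} : Set F))
  card_eq : Nat.card F = Nat.card A * Nat.card T

variable {G : Type u} [Group G] [Finite G] {p : ℕ} [Fact p.Prime] {M : Ideal Cfsg.AlgInt}

/-- The division lemma for a family of characters. -/
theorem memRing_div_centralizer' (hM : Cfsg.IsPModular p M) {κ : Type*} [Fintype κ]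
    (χ : κ → Cfsg.IrrCharacter G) (b : κ → ℂ) (hb : ∀ k, Cfsg.MemLocalRing M (b k)) {f : G → ℂ}
    (hf : ∀ g, f g = ∑ k, b k * (χ k : G → ℂ) g)
    (hvan : ∀ g, ¬ Cfsg.IsPRegular p g → f g = 0) {s : G} (hs : Cfsg.IsPRegular p s) :
    Cfsg.MemLocalRing M (f s / (Nat.card (Subgroup.centralizer ({s} : Set G)) : ℂ)) := by
  refine memRing_div_centralizer hM
    (b := fun θ => ∑ k ∈ Finset.univ.filter (fun k => χ k = θ), b k)
    (fun θ => memRing_sum hM _ fun k _ => hb k) (Finset.univ.image χ) (fun g => ?_) hvan hs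
  rw [hf, ← Finset.sum_fiberwise_of_maps_to (g := χ) (t := Finset.univ.image χ)
    fun k _ => Finset.mem_image_of_mem χ (Finset.mem_univ k)]
  refine Finset.sum_congr rfl fun θ _ => ?_
  rw [Finset.sum_mul]
  exact Finset.sum_congr rfl fun k hk => by rw [(Finset.mem_filter.1 hk).2]

theorem card_centralizer_conj (g c : G) :
    Nat.card (Subgroup.centralizer ({c * g * c⁻¹} : Set G)) =
      Nat.card (Subgroup.centralizer ({g} : Set G)) := by
  have h := CfsgLib.Blocks.Pairs.index_centralizer_equiv (MulAut.conj c) g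
  rw [MulAut.conj_apply] at h
  have h1 := Subgroup.card_mul_index (Subgroup.centralizer ({g} : Set G))
  have h2 := Subgroup.card_mul_index (Subgroup.centralizer ({c * g * c⁻¹} : Set G))
  rw [← h, ← h1] at h2
  exact Nat.eq_of_mul_eq_mul_right (Nat.pos_of_ne_zero Subgroup.index_ne_zero_of_finite) h2

variable [M.IsMaximal] {P : Subgroup G} [IsMulCommutative P]
  {e : MonoidAlgebra (CfsgLib.Blocks.ResField M) G} {ι : Type u} [Fintype ι]

/-- The value at a section as a combination of the columns. -/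
theorem exists_section_coeff (hM : Cfsg.IsPModular p M) {B : Set (Cfsg.IrrCharacter G)}
    (hB : Cfsg.IsPBlock M B) (S : LocalSections p M B P e ι)
    {col : ι → Cfsg.IrrCharacter G → ℂ}
    {φ : ∀ i, Subgroup.centralizer ({S.x i} : Set G) → ℂ}
    (hcol : ∀ i, IsColumn p M B (S.x i) (S.b i) (col i) (φ i)) {x : G} (hx : x ∈ S.X)
    (hx1 : x ≠ 1) (s : Subgroup.centralizer ({x} : Set G)) (hs : Cfsg.IsPRegular p s) :
    ∃ Φ : ι → ℂ, (∀ χ ∈ B, (χ : G → ℂ) (x * s) = ∑ i, Φ i * col i χ) ∧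
      (∀ i, IsIntegral ℤ (Φ i)) ∧
      ∀ i, Cfsg.MemLocalRing M (((p ^ Cfsg.blockDefect p B : ℕ) : ℂ) * Φ i /
        (Nat.card (Subgroup.centralizer ({x * (s : G)} : Set G)) : ℂ)) := by
  let Φ : ι → ℂ := fun i => if h : S.x i = x then φ i ⟨s, by rw [h]; exact s.2⟩ else 0
  have hcent : ∀ (z : G) (t : Subgroup.centralizer ({z} : Set G)), (∃ k : ℕ, orderOf z = p ^ k) →
      Cfsg.IsPRegular p t → Nat.card (Subgroup.centralizer ({z * (t : G)} : Set G)) =
        Nat.card (Subgroup.centralizer ({t} : Set (Subgroup.centralizer ({z} : Set G)))) := by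
    intro z t hz ht
    have h := CfsgLib.BlockRank.index_centralizer_translate (C := Subgroup.centralizer ({z} : Set G))
      rfl hz t ht
    have h1 := Subgroup.card_mul_index (Subgroup.centralizer ({z * (t : G)} : Set G))
    have h2 := Subgroup.card_mul_index
      (Subgroup.centralizer ({t} : Set (Subgroup.centralizer ({z} : Set G))))
    have h3 := Subgroup.card_mul_index (Subgroup.centralizer ({z} : Set G))
    rw [h] at h1
    refine Nat.eq_of_mul_eq_mul_right (m := (Subgroup.centralizer ({z} : Set G)).index *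
      (Subgroup.centralizer ({t} : Set (Subgroup.centralizer ({z} : Set G)))).index)
      (Nat.mul_pos (Nat.pos_of_ne_zero Subgroup.index_ne_zero_of_finite)
        (Nat.pos_of_ne_zero Subgroup.index_ne_zero_of_finite)) ?_
    rw [h1, mul_left_comm, h2, mul_comm, h3]
  refine ⟨Φ, fun χ hχ => ?_, fun i => ?_, fun i => ?_⟩
  · rw [apply_translate hM hB (S.pelem x hx) hχ s hs,
      finsum_mem_eq_finite_toFinset_sum _ (Set.toFinite _)]
    have hsum : ∑ i, Φ i * col i χ = ∑ i ∈ Finset.univ.filter (fun i => S.x i = x),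
        Φ i * col i χ := by
      refine (Finset.sum_filter_of_ne fun i _ h => ?_).symm
      by_contra hne
      exact h (by rw [show Φ i = 0 from dif_neg hne, zero_mul])
    rw [hsum]
    symm
    have hval : ∀ (i : ι) (b : Set (Cfsg.IrrCharacter (Subgroup.centralizer ({x} : Set G)))),
        (⟨S.x i, S.b i⟩ : SecIdx G) = ⟨x, b⟩ → Φ i * col i χ = Cfsg.blockPart b
          (fun c : Subgroup.centralizer ({x} : Set G) => (χ : G → ℂ) (x * c)) s := by
      intro i b h
      obtain ⟨h1, h2⟩ := Sigma.mk.inj_iff.1 h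
      subst h1
      obtain rfl := eq_of_heq h2
      rw [show Φ i = φ i s from dif_pos rfl, mul_comm, (hcol i).value χ s hs]
    let ib : ∀ i, i ∈ Finset.univ.filter (fun i => S.x i = x) →
        Set (Cfsg.IrrCharacter (Subgroup.centralizer ({x} : Set G))) :=
      fun i hi => (Finset.mem_filter.1 hi).2 ▸ S.b i
    have hib : ∀ i hi, (⟨S.x i, S.b i⟩ : SecIdx G) = ⟨x, ib i hi⟩ := by
      intro i hi
      have h := (Finset.mem_filter.1 hi).2
      exact Sigma.ext h (by simp [ib])
    refine Finset.sum_bij ib (fun i hi => ?_) (fun i hi j hj h => S.idx_injective ?_)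
      (fun b hb => ?_) fun i hi => hval i _ (hib i hi)
    · rw [Set.Finite.mem_toFinset, Set.mem_setOf_eq]
      have : ∀ (z : G) (b : Set (Cfsg.IrrCharacter (Subgroup.centralizer ({z} : Set G))))
          (b' : Set (Cfsg.IrrCharacter (Subgroup.centralizer ({x} : Set G)))),
          Cfsg.IsInducedBlock M (Subgroup.centralizer ({z} : Set G)) b B →
          (⟨z, b⟩ : SecIdx G) = ⟨x, b'⟩ →
          Cfsg.IsInducedBlock M (Subgroup.centralizer ({x} : Set G)) b' B := by
        intro z b b' hb h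
        obtain ⟨h1, h2⟩ := Sigma.mk.inj_iff.1 h
        subst h1
        obtain rfl := eq_of_heq h2
        exact hb
      exact this _ _ _ (S.induced i) (hib i hi)
    · exact (hib i hi).trans ((by rw [h]) : (⟨x, ib i hi⟩ : SecIdx G) = ⟨x, ib j hj⟩) |>.trans
        (hib j hj).symm
    · rw [Set.Finite.mem_toFinset, Set.mem_setOf_eq] at hb
      obtain ⟨i, hi⟩ := S.complete x hx hx1 b hb
      have hif : i ∈ Finset.univ.filter (fun i => S.x i = x) :=
        Finset.mem_filter.2 ⟨Finset.mem_univ _, (Sigma.mk.inj_iff.1 hi).1⟩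
      exact ⟨i, hif, eq_of_heq (Sigma.mk.inj_iff.1 ((hib i hif).symm.trans hi)).2⟩
  · simp only [Φ]
    split_ifs with h
    · exact (hcol i).phi_integral _
    · exact isIntegral_zero
  · simp only [Φ]
    split_ifs with h
    · subst h
      rw [hcent _ s (S.pelem _ hx) hs]
      exact (hcol i).phi_dvd s hs
    · rw [mul_zero, zero_div]
      exact memRing_zero hM

variable [CharP (CfsgLib.Blocks.ResField M) p]

/-- A block with free inertial action is perfectly isometric to a Frobenius group. -/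
theorem exists_perfectIsometry (hM : Cfsg.IsPModular p M) {B : Set (Cfsg.IrrCharacter G)}
    (hB : Cfsg.IsPBlock M B) (hPB : Cfsg.IsDefectGroup p M B P) (hP1 : P ≠ ⊥)
    [Fintype (autP P e)] (S : LocalSections p M B P e ι)
    {col : ι → Cfsg.IrrCharacter G → ℂ}
    {φ : ∀ i, Subgroup.centralizer ({S.x i} : Set G) → ℂ}
    (hcol : ∀ i, IsColumn p M B (S.x i) (S.b i) (col i) (φ i))
    {X Y : Finset (Cfsg.IrrCharacter G)} {δ : Cfsg.IrrCharacter G → ℤ} {δ₀ : ℤ}
    (R : RegularData p B X Y δ δ₀) (hX : X.card = Nat.card (autP P e))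
    (hY : Y.card = Fintype.card ι) (hint : StarInt S col)
    {F : Type v} [Group F] [Finite F] (Mod : FrobModel F p (autP P e)) :
    ∃ (I : Cfsg.IrrCharacter F → Cfsg.IrrCharacter G) (ε : Cfsg.IrrCharacter F → ℤ),
      Cfsg.IsPerfectIsometry p M (Set.univ : Set (Cfsg.IrrCharacter F)) B I ε ∧
      ∀ q q', ε (Mod.theta q) = ε (Mod.theta q') := by
  haveI := finite_orb (autP P e)
  haveI := Fintype.ofFinite (Orb (autP P e))
  haveI := Fintype.ofFinite P
  haveI := Fintype.ofFinite (Cfsg.IrrCharacter F)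
  obtain ⟨c, π, hπi, hπY, hπs, hcint, hcX, hcY⟩ := exists_coherent hM hB hPB S hcol R hX hY hint
  set n := Nat.card (autP P e) with hn
  obtain ⟨σ⟩ : Nonempty (Fin n ≃ X) :=
    ⟨Fintype.equivOfCardEq (by rw [Fintype.card_fin, Fintype.card_coe, hX])⟩
  let E : Fin n ⊕ Orb (autP P e) ≃ Cfsg.IrrCharacter F := Equiv.ofBijective _ Mod.exhaust
  let I : Cfsg.IrrCharacter F → Cfsg.IrrCharacter G := fun η =>
    Sum.elim (fun j => (σ j : Cfsg.IrrCharacter G)) π (E.symm η)
  let ε : Cfsg.IrrCharacter F → ℤ := fun η =>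
    Sum.elim (fun j => δ (σ j)) (fun _ => -δ₀) (E.symm η)
  have hI1 : ∀ j, I (Mod.lam j) = σ j := fun j => by
    show Sum.elim _ _ (E.symm (E (Sum.inl j))) = _
    rw [Equiv.symm_apply_apply]; rfl
  have hI2 : ∀ q, I (Mod.theta q) = π q := fun q => by
    show Sum.elim _ _ (E.symm (E (Sum.inr q))) = _
    rw [Equiv.symm_apply_apply]; rfl
  have hε1 : ∀ j, ε (Mod.lam j) = δ (σ j) := fun j => by
    show Sum.elim _ _ (E.symm (E (Sum.inl j))) = _
    rw [Equiv.symm_apply_apply]; rfl
  have hε2 : ∀ q, ε (Mod.theta q) = -δ₀ := fun q => by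
    show Sum.elim _ _ (E.symm (E (Sum.inr q))) = _
    rw [Equiv.symm_apply_apply]; rfl
  refine ⟨I, ε, ⟨⟨fun η _ => ?_, ?_, fun χ hχ => ?_⟩, fun η _ => ?_, ?_⟩,
    fun q q' => by rw [hε2, hε2]⟩
  · obtain ⟨s, rfl⟩ := Mod.exhaust.2 η
    rcases s with j | q
    · show I (Mod.lam j) ∈ B
      rw [hI1]
      exact (R.mem _).2 (Or.inl (σ j).2)
    · show I (Mod.theta q) ∈ B
      rw [hI2]
      exact (R.mem _).2 (Or.inr (hπY q))
  · intro η _ η' _ h
    obtain ⟨s, rfl⟩ := Mod.exhaust.2 η
    obtain ⟨t, rfl⟩ := Mod.exhaust.2 η'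
    rcases s with j | q <;> rcases t with j' | q' <;>
      simp only [Sum.elim_inl, Sum.elim_inr, hI1, hI2] at h ⊢
    · rw [σ.injective (Subtype.ext h)]
    · exact absurd (h ▸ hπY q' : (σ j : Cfsg.IrrCharacter G) ∈ Y)
        (Finset.disjoint_left.1 R.disj (σ j).2)
    · exact absurd (h ▸ hπY q : (σ j' : Cfsg.IrrCharacter G) ∈ Y)
        (Finset.disjoint_left.1 R.disj (σ j').2)
    · rw [hπi h]
  · rcases (R.mem χ).1 hχ with h | h
    · exact ⟨Mod.lam (σ.symm ⟨χ, h⟩), Set.mem_univ _, by rw [hI1, Equiv.apply_symm_apply]⟩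
    · obtain ⟨q, hq⟩ := hπs χ h
      exact ⟨Mod.theta q, Set.mem_univ _, by rw [hI2, hq]⟩
  · obtain ⟨s, rfl⟩ := Mod.exhaust.2 η
    rcases s with j | q
    · show ε (Mod.lam j) = 1 ∨ ε (Mod.lam j) = -1
      rw [hε1]
      exact R.sign _ (σ j).2
    · show ε (Mod.theta q) = 1 ∨ ε (Mod.theta q) = -1
      rw [hε2]
      rcases R.sign₀ with h | h <;> simp [h]
  -- the kernel
  set μ := Cfsg.signedBijectionKernel (Set.univ : Set (Cfsg.IrrCharacter F)) I ε with hμ
  have hμval : ∀ g y, μ g y =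
      ∑ j, (δ (σ j) : ℂ) * (σ j : Cfsg.IrrCharacter G).1 g * (Mod.lam j : F → ℂ) y +
        ∑ q, -(δ₀ : ℂ) * (π q : G → ℂ) g * (Mod.theta q : F → ℂ) y := by
    intro g y
    rw [hμ, Cfsg.signedBijectionKernel, finsum_mem_univ, finsum_eq_sum_of_fintype,
      ← E.sum_comp fun η => (ε η : ℂ) * (I η : G → ℂ) g * (η : F → ℂ) y, Fintype.sum_sum_type]
    congr 1 <;> refine Finset.sum_congr rfl fun k _ => ?_
    · show (ε (Mod.lam k) : ℂ) * (I (Mod.lam k) : G → ℂ) g * _ = _
      rw [hI1, hε1]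
      rfl
    · show (ε (Mod.theta k) : ℂ) * (I (Mod.theta k) : G → ℂ) g * _ = _
      rw [hI2, hε2]
      push_cast
      rfl
  have hcardP : Nat.card P = p ^ Cfsg.blockDefect p B :=
    CfsgLib.Blocks.card_defectGroup hM hB hPB
  have hcardA : Nat.card P = 1 + n * Fintype.card ι := S.reps.card_eq
  have hpn : ¬ p ∣ n := by
    intro h
    have h1 : 1 < Nat.card P := by
      have := Nat.card_pos (α := P)
      have hne : Nat.card P ≠ 1 := fun h => hP1 (Subgroup.card_eq_one.1 h)
      omega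
    have hd : Cfsg.blockDefect p B ≠ 0 := fun h0 => by rw [hcardP, h0, pow_zero] at h1; omega
    have h2 : p ∣ Nat.card P := hcardP ▸ dvd_pow_self p hd
    rw [hcardA] at h2
    exact (Fact.out : p.Prime).not_dvd_one ((Nat.dvd_add_left (h.mul_right _)).1 h2)
  have hXsum : ∀ f : Cfsg.IrrCharacter G → ℂ, ∑ j, f (σ j) = ∑ χ ∈ X, f χ := fun f => by
    rw [σ.sum_comp fun χ : X => f χ, Finset.sum_coe_sort X f]
  -- on a regular element
  have hμreg : ∀ g y, Cfsg.IsPRegular p g → μ g y = ∑ j, (δ (σ j) : ℂ) *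
      (σ j : Cfsg.IrrCharacter G).1 g * ((Mod.lam j : F → ℂ) y +
        ∑ q, (Mod.theta q : F → ℂ) y) := by
    intro g y hg
    simp only [mul_add, Finset.sum_add_distrib, hμval]
    congr 1
    simp only [R.apply_Y (hπY _) hg, ← hXsum (fun χ => (δ χ : ℂ) * (χ : G → ℂ) g)]
    simp only [← Finset.sum_mul, ← Finset.mul_sum]
    linear_combination ((∑ j, (δ (σ j) : ℂ) * (σ j : Cfsg.IrrCharacter G).1 g) *
      ∑ q, (Mod.theta q : F → ℂ) y) * R.sq₀_eq_one
  -- on a section
  have hμsec : ∀ x ∈ S.X, x ≠ 1 → ∀ s : Subgroup.centralizer ({x} : Set G),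
      Cfsg.IsPRegular p s → ∃ Φ : ι → ℂ, (∀ y, μ (x * s) y = ∑ i, Φ i * c i *
        (∑ j, (Mod.lam j : F → ℂ) y +
          ∑ q, orbSum (autP P e) (rep (autP P e) q) (S.r i) * (Mod.theta q : F → ℂ) y)) ∧
      (∀ i, IsIntegral ℤ (Φ i)) ∧
      ∀ i, Cfsg.MemLocalRing M (((p ^ Cfsg.blockDefect p B : ℕ) : ℂ) * Φ i /
        (Nat.card (Subgroup.centralizer ({x * (s : G)} : Set G)) : ℂ)) := by
    intro x hx hx1 s hs
    obtain ⟨Φ, hΦ, hΦi, hΦd⟩ := exists_section_coeff hM hB S hcol hx hx1 s hs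
    refine ⟨Φ, fun y => ?_, hΦi, hΦd⟩
    rw [hμval]
    simp only [mul_add, Finset.sum_add_distrib, Finset.mul_sum]
    symm
    refine congrArg₂ (· + ·) (Finset.sum_comm.trans (Finset.sum_congr rfl fun j _ => ?_))
      (Finset.sum_comm.trans (Finset.sum_congr rfl fun q _ => ?_))
    · symm
      rw [hΦ _ ((R.mem _).2 (Or.inl (σ j).2)), Finset.mul_sum, Finset.sum_mul]
      refine Finset.sum_congr rfl fun i _ => ?_
      rw [hcX i _ (σ j).2]
      linear_combination (Φ i * c i * (Mod.lam j : F → ℂ) y) * R.sq_eq_one (σ j).2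
    · symm
      rw [hΦ _ ((R.mem _).2 (Or.inr (hπY q))), Finset.mul_sum, Finset.sum_mul]
      refine Finset.sum_congr rfl fun i _ => ?_
      rw [hcY i q]
      linear_combination (Φ i * c i * orbSum (autP P e) (rep (autP P e) q) (S.r i) * (Mod.theta q : F → ℂ) y) *
        R.sq₀_eq_one
  -- the sums over the model
  have hlamQ : ∀ y ∈ Mod.Q, ∑ j, (Mod.lam j : F → ℂ) y = (n : ℂ) := fun y hy => by
    simp [Mod.lam_Q _ y hy, hn, Nat.card_eq_fintype_card]
  have htheta1 : ∀ q, (Mod.theta q : F → ℂ) 1 = (n : ℂ) := fun q => by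
    rw [show (1 : F) = ((1 : Mod.Q) : F) from rfl, Mod.theta_Q, map_one, orbSum_apply_one]
  have hsumr : ∀ i, ∑ q, orbSum (autP P e) (rep (autP P e) q) (S.r i) = -1 := fun i => by
    rw [CfsgLib.Blk83.FreeOrbit.sum_orbSum (autP P e) S.reps.free, if_neg (S.reps.ne_one i), zero_sub]
  -- reduction of the first variable
  have hclass : ∀ y g h, μ (h * g * h⁻¹) y = μ g y := by
    intro y g h
    rw [hμval, hμval]
    congr 1 <;> refine Finset.sum_congr rfl fun k _ => ?_
    · rw [CfsgLib.Char.IsIrrCharacter.isClassFunction (σ k : Cfsg.IrrCharacter G).2 g h]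
    · rw [CfsgLib.Char.IsIrrCharacter.isClassFunction (π k).2 g h]
  have hred : ∀ g : G, ¬ Cfsg.IsPRegular p g → ∃ x ∈ S.X, x ≠ 1 ∧
      ∃ s : Subgroup.centralizer ({x} : Set G), Cfsg.IsPRegular p s ∧
        ∃ h : G, g = h * (x * s) * h⁻¹ := by
    intro g hg
    obtain ⟨z, w, hzw, hcomm, hz, hw⟩ := CfsgLib.Blocks.exists_isPPart (Fact.out : p.Prime) g
    obtain ⟨x, ⟨hx, hconj⟩, -⟩ := S.rep z hz
    obtain ⟨h, hh⟩ := isConj_iff.1 hconj
    have hmem : h * w * h⁻¹ ∈ Subgroup.centralizer ({x} : Set G) := by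
      rw [Subgroup.mem_centralizer_singleton_iff, ← hh]
      calc h * w * h⁻¹ * (h * z * h⁻¹) = h * (w * z) * h⁻¹ := by group
        _ = h * (z * w) * h⁻¹ := by rw [hcomm.eq]
        _ = h * z * h⁻¹ * (h * w * h⁻¹) := by group
    refine ⟨x, hx, fun hx1 => hg ?_, ⟨h * w * h⁻¹, hmem⟩, ?_, h⁻¹, ?_⟩
    · have hz1 : z = 1 := by
        calc z = h⁻¹ * (h * z * h⁻¹) * h := by group
          _ = 1 := by rw [hh, hx1]; group
      rw [← hzw, hz1, one_mul]
      exact hw
    · show ¬ p ∣ orderOf (⟨h * w * h⁻¹, hmem⟩ : Subgroup.centralizer ({x} : Set G))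
      rw [Subgroup.orderOf_mk, show orderOf (h * w * h⁻¹) = orderOf w from
        MulEquiv.orderOf_eq (MulAut.conj h) w]
      exact hw
    · show g = h⁻¹ * (x * (h * w * h⁻¹)) * h⁻¹⁻¹
      rw [← hzw, ← hh]
      group
  have hsing_reg : ∀ y, Cfsg.IsPRegular p y → ∀ g, ¬ Cfsg.IsPRegular p g → μ g y = 0 := by
    intro y hy g hg
    obtain ⟨x, hx, hx1, s, hs, h, rfl⟩ := hred g hg
    obtain ⟨Φ, hΦ, -, -⟩ := hμsec x hx hx1 s hs
    rw [hclass, hΦ]
    refine Finset.sum_eq_zero fun i _ => ?_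
    by_cases hyQ : y ∈ Mod.Q
    · obtain rfl : y = 1 := by_contra fun h1 => Mod.singular_on y hyQ h1 hy
      rw [hlamQ 1 hyQ, Finset.sum_congr rfl fun q _ => by rw [htheta1 q], ← Finset.sum_mul, hsumr]
      ring
    · rw [Mod.lam_sum y hyQ, Finset.sum_eq_zero fun q _ => by rw [Mod.theta_off q y hyQ, mul_zero]]
      ring
  intro g y
  have hF : (Nat.card (Subgroup.centralizer ({y} : Set F)) : ℂ) ≠ 0 :=
    Nat.cast_ne_zero.2 Nat.card_pos.ne'
  by_cases hg : Cfsg.IsPRegular p g
  · by_cases hy : Cfsg.IsPRegular p y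
    · -- both regular
      have hdiv : Cfsg.MemLocalRing M (μ g y /
          (Nat.card (Subgroup.centralizer ({g} : Set G)) : ℂ)) :=
        memRing_div_centralizer' hM (κ := Fin n ⊕ Orb (autP P e))
          (Sum.elim (fun j => (σ j : Cfsg.IrrCharacter G)) π)
          (Sum.elim (fun j => (δ (σ j) : ℂ) * (Mod.lam j : F → ℂ) y)
            (fun q => -(δ₀ : ℂ) * (Mod.theta q : F → ℂ) y))
          (fun k => by
            rcases k with j | q
            · exact memRing_mul hM (memRing_intCast hM _) (memRing_char hM _ _)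
            · exact memRing_mul hM (by rw [← Int.cast_neg]; exact memRing_intCast hM _)
                (memRing_char hM _ _))
          (f := fun g => μ g y) (fun g => by
            show μ g y = _
            rw [hμval, Fintype.sum_sum_type]
            simp only [Sum.elim_inl, Sum.elim_inr]
            congr 1 <;> exact Finset.sum_congr rfl fun k _ => by ring)
          (hsing_reg y hy) hg
      refine ⟨hdiv, ?_, Or.inl ⟨fun _ => hy, fun _ => hg⟩⟩
      by_cases hyQ : y ∈ Mod.Q
      · obtain rfl : y = 1 := by_contra fun h1 => Mod.singular_on y hyQ h1 hy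
        have hcard1 : Nat.card (Subgroup.centralizer ({(1 : F)} : Set F)) = Nat.card P * n := by
          rw [← Mod.card_eq, show Subgroup.centralizer ({(1 : F)} : Set F) = ⊤ from
            (Subgroup.eq_top_iff' _).2 fun w =>
              Subgroup.mem_centralizer_singleton_iff.2 (by simp)]
          exact Subgroup.card_top
        have hval : μ g (1 : F) = (Nat.card P : ℂ) *
            ∑ j, (δ (σ j) : ℂ) * (σ j : Cfsg.IrrCharacter G).1 g := by
          rw [hμreg g 1 hg, Finset.mul_sum]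
          refine Finset.sum_congr rfl fun j _ => ?_
          rw [Mod.lam_Q j 1 hyQ, Finset.sum_congr rfl fun q _ => htheta1 q, Finset.sum_const,
            Finset.card_univ, S.reps.card_orb, hcardA, nsmul_eq_mul]
          push_cast
          ring
        have hP0 : (Nat.card P : ℂ) ≠ 0 := Nat.cast_ne_zero.2 Nat.card_pos.ne'
        rw [hval, hcard1, Nat.cast_mul, mul_div_mul_left _ _ hP0, div_eq_mul_inv]
        exact memRing_mul hM (memRing_sum hM _ fun j _ =>
          memRing_mul hM (memRing_intCast hM _) (memRing_char hM _ _)) (memRing_inv_natCast hM hpn)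
      · rw [div_eq_mul_inv]
        refine memRing_mul hM ?_ (memRing_inv_natCast hM (Mod.cent_off y hyQ))
        rw [hμreg g y hg]
        refine memRing_sum hM _ fun j _ => memRing_mul hM
          (memRing_mul hM (memRing_intCast hM _) (memRing_char hM _ _)) ?_
        rw [Finset.sum_eq_zero fun q _ => Mod.theta_off q y hyQ, add_zero]
        exact memRing_char hM _ _
    · -- only the first regular
      have hyQ : y ∈ Mod.Q := by_contra fun h => hy (Mod.regular_off y h)
      have hy1 : y ≠ 1 := fun h => hy (h ▸ isPRegular_one)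
      have h0 : μ g y = 0 := by
        rw [hμreg g y hg]
        refine Finset.sum_eq_zero fun j _ => ?_
        rw [Mod.lam_Q j y hyQ, Finset.sum_congr rfl fun q _ => Mod.theta_Q q ⟨y, hyQ⟩,
          CfsgLib.Blk83.FreeOrbit.sum_orbSum (autP P e) S.reps.free, if_neg fun h => hy1 (congrArg Subtype.val
            ((map_eq_one_iff Mod.iso Mod.iso.injective).1 h))]
        ring
      rw [h0]
      exact ⟨by simpa using memRing_zero hM, by simpa using memRing_zero hM, Or.inr rfl⟩
  · by_cases hy : Cfsg.IsPRegular p y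
    · rw [hsing_reg y hy g hg]
      exact ⟨by simpa using memRing_zero hM, by simpa using memRing_zero hM, Or.inr rfl⟩
    · -- both singular
      have hyQ : y ∈ Mod.Q := by_contra fun h => hy (Mod.regular_off y h)
      have hy1 : y ≠ 1 := fun h => hy (h ▸ isPRegular_one)
      obtain ⟨x, hx, hx1, s, hs, h, rfl⟩ := hred g hg
      obtain ⟨Φ, hΦ, hΦi, hΦd⟩ := hμsec x hx hx1 s hs
      set w : P := Mod.iso ⟨y, hyQ⟩ with hw
      have hw1 : w⁻¹ ≠ 1 := by
        rw [Ne, inv_eq_one, hw, map_eq_one_iff Mod.iso Mod.iso.injective]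
        exact fun h => hy1 (congrArg Subtype.val h)
      obtain ⟨k, a, hka⟩ := S.reps.surj w⁻¹ hw1
      have hθ : ∀ q, (Mod.theta q : F → ℂ) y = conj (orbSum (autP P e) (rep (autP P e) q) (S.r k)) := fun q => by
        rw [show (y : F) = ((⟨y, hyQ⟩ : Mod.Q) : F) from rfl, Mod.theta_Q, ← hw,
          ← OrbitReps.orbSum_inv_aux (rep (autP P e) q) a (S.r k), hka, conj_orbSum, inv_inv]
      have hval : μ (h * (x * s) * h⁻¹) y = (Nat.card P : ℂ) * (Φ k * c k) := by
        rw [hclass, hΦ, Finset.sum_eq_single k]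
        · rw [hlamQ y hyQ, Finset.sum_congr rfl fun q _ => by rw [hθ q], S.reps.row_orth k k,
            if_pos rfl]
          ring
        · intro i _ hik
          rw [hlamQ y hyQ, Finset.sum_congr rfl fun q _ => by rw [hθ q], S.reps.row_orth i k,
            if_neg hik]
          ring
        · exact fun h => absurd (Finset.mem_univ _) h
      refine ⟨?_, ?_, Or.inl ⟨fun h' => absurd h' hg, fun h' => absurd h' hy⟩⟩
      · rw [hval, card_centralizer_conj (x * (s : G)) h, hcardP,
          show (((p ^ Cfsg.blockDefect p B : ℕ) : ℂ) * (Φ k * c k)) /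
            (Nat.card (Subgroup.centralizer ({x * (s : G)} : Set G)) : ℂ) =
            c k * (((p ^ Cfsg.blockDefect p B : ℕ) : ℂ) * Φ k /
              (Nat.card (Subgroup.centralizer ({x * (s : G)} : Set G)) : ℂ)) by ring]
        exact memRing_mul hM (memRing_algInt hM (hcint k)) (hΦd k)
      · rw [hval, Mod.cent_on y hyQ hy1,
          mul_div_cancel_left₀ _ (Nat.cast_ne_zero.2 Nat.card_pos.ne')]
        exact memRing_algInt hM ((hΦi k).mul (hcint k))

end CfsgLib.PerfIso
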