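import Cfsg.Agent.Lib.PerfIso.Main

/-!
The relation between the four characters of a block with a four-group as defect group.
-/

set_option autoImplicit false
set_option maxHeartbeats 1600000
set_option synthInstance.maxHeartbeats 400000

open Cfsg CfsgLib.Blocks CfsgLib.Blocks.Pairs
open scoped ComplexConjugate IsMulCommutative

namespace CfsgLib.PerfIso

universe u

variable {G : Type u} [Group G] [Finite G] {M : Ideal AlgInt} [M.IsMaximal]
  [CharP (ResField M) 2]

omit [Finite G] in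
/-- Elements of a four-group multiply to the third one. -/
theorem four_conj_twice {P : Subgroup G} (hV : IsKleinFour P) {g x : G} (hx : x ∈ P) (hx1 : x ≠ 1)
    (hg : ∀ w ∈ P, g * w * g⁻¹ ∈ P) (hgx : g * x * g⁻¹ = x) {y : G} (hy : y ∈ P) :
    g * (g * y * g⁻¹) * g⁻¹ = y := by
  rcases eq_or_ne y x with rfl | hyx
  · rw [hgx, hgx]
  rcases eq_or_ne y 1 with rfl | hy1
  · simp
  rcases eq_or_ne (g * y * g⁻¹) y with h | h
  · rw [h, h]
  set z := g * y * g⁻¹ with hz
  have hzP : (⟨z, hg y hy⟩ : P) = ⟨x, hx⟩ * ⟨y, hy⟩ := by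
    refine IsKleinFour.eq_mul_of_ne_all (fun h' => hx1 (congrArg Subtype.val h'))
      (fun h' => hy1 (congrArg Subtype.val h')) (fun h' => hyx (congrArg Subtype.val h').symm)
      (fun h' => hy1 ?_) (fun h' => hyx ?_) (fun h' => h (congrArg Subtype.val h'))
    · have h2 : z = 1 := congrArg Subtype.val h'
      calc y = g⁻¹ * z * g := by rw [hz]; group
        _ = 1 := by rw [h2]; group
    · have h2 : z = x := congrArg Subtype.val h'
      calc y = g⁻¹ * z * g := by rw [hz]; group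
        _ = g⁻¹ * (g * x * g⁻¹) * g := by rw [h2, hgx]
        _ = x := by group
  have hzv : z = x * y := congrArg Subtype.val hzP
  calc g * z * g⁻¹ = (g * x * g⁻¹) * (g * y * g⁻¹) := by rw [hzv]; group
    _ = x * (x * y) := by rw [hgx, ← hz, hzv]
    _ = y := by
      rw [← mul_assoc, show x * x = 1 from
        congrArg Subtype.val (IsKleinFour.mul_self (⟨x, hx⟩ : P)), one_mul]

/-- The inertial action on a four-group is free. -/
theorem free_of_klein (hM : IsPModular 2 M) {B : MonoidAlgebra (ResField M) G} {P : Subgroup G}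
    {e : MonoidAlgebra (ResField M) G} (hP : PairOf 2 B P e) (hno : NoExt 2 P e)
    (hV : IsKleinFour P) (hab : ∀ x ∈ P, ∀ y ∈ P, x * y = y * x) : Free P (pairStab P e) := by
  intro g hg x hx hx1 hgx
  obtain ⟨r, hr, hgr⟩ := exists_pow_mem_centralizer hM hP hno hab hg
  refine mem_of_pow_mem (k := 1) hr hgr ?_
  rw [Subgroup.mem_centralizer_iff]
  intro y hy
  have key := four_conj_twice hV hx hx1
    (fun w hw => (Subgroup.mem_normalizer_iff.1 hg.1 w).1 hw) hgx hy
  rw [pow_one, pow_two]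
  have h2 : g * g * y * (g * g)⁻¹ = y :=
    (show g * g * y * (g * g)⁻¹ = g * (g * y * g⁻¹) * g⁻¹ by group).trans key
  exact (mul_inv_eq_iff_eq_mul.1 h2).symm

/-- The signed relation between the characters of a block with four characters, at an involution. -/
theorem exists_signs (hM : IsPModular 2 M) {B : Set (IrrCharacter G)} (hB : IsPBlock M B) {x : G}
    (hx : orderOf x = 2) {b : Set (IrrCharacter (Subgroup.centralizer ({x} : Set G)))}
    (hind : IsInducedBlock M (Subgroup.centralizer ({x} : Set G)) b B)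
    (hdef : blockDefect 2 b = blockDefect 2 B) {col : IrrCharacter G → ℂ}
    {φ : Subgroup.centralizer ({x} : Set G) → ℂ} (hcol : IsColumn 2 M B x b col φ)
    [Fintype B] (hk : Nat.card B = 4) (hd : blockDefect 2 B = 2) :
    ∃ δ : IrrCharacter G → ℤ, (∀ χ, δ χ = 1 ∨ δ χ = -1) ∧
      ∀ g : G, IsPRegular 2 g → ∑ χ ∈ B.toFinset, (δ χ : ℂ) * (χ : G → ℂ) g = 0 := by
  classical
  haveI := Fintype.ofFinite G
  haveI := Fintype.ofFinite (Subgroup.centralizer ({x} : Set G))
  haveI := Fintype.ofFinite b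
  have hx' : ∃ k : ℕ, orderOf x = 2 ^ k := ⟨1, by rw [hx, pow_one]⟩
  have hx1 : x ≠ 1 := fun h => by rw [h, orderOf_one] at hx; omega
  -- integers
  have hint : ∀ χ : IrrCharacter G, ∃ N : ℤ, (N : ℂ) = col χ * φ 1 := by
    intro χ
    obtain ⟨m, i, -, hm⟩ := CfsgLib.BlockRank.exists_blockPart_translate
      (C := Subgroup.centralizer ({x} : Set G)) rfl
      (ζ := (-1 : ℂ)) (by rw [hx]; exact IsPrimitiveRoot.neg_one 0 (by norm_num)) χ
    refine ⟨∑ θ ∈ b.toFinset, (m θ : ℤ) * (-1) ^ i θ *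
      (CfsgLib.Char.degree (θ : Subgroup.centralizer ({x} : Set G) → ℂ) : ℤ), ?_⟩
    rw [← hcol.value χ 1 isPRegular_one, hm b 1]
    push_cast
    refine Finset.sum_congr rfl fun θ _ => ?_
    rw [CfsgLib.Char.IsCharacter.degree_cast (CfsgLib.Char.IsIrrCharacter.isCharacter θ.2)]
  choose N hN using hint
  set D : ℂ := φ 1 * conj (φ 1) with hD
  have hD0 : D ≠ 0 := mul_ne_zero hcol.phi_one ((map_ne_zero _).2 hcol.phi_one)
  have ha : ∀ χ, col χ * conj (col χ) * D = ((N χ ^ 2 : ℤ) : ℂ) := fun χ => by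
    have h1 : conj ((N χ : ℤ) : ℂ) = conj (col χ * φ 1) := by rw [hN]
    rw [map_intCast, map_mul] at h1
    push_cast
    rw [hD, sq]
    conv_rhs => rw [hN]
    rw [← hN χ]
    calc col χ * conj (col χ) * (φ 1 * conj (φ 1))
        = (col χ * φ 1) * (conj (col χ) * conj (φ 1)) := by ring
      _ = _ := by rw [← h1, hN]
  have hnorm : ∑ χ ∈ B.toFinset, col χ * conj (col χ) = 4 := by
    have h := hcol.norm
    rw [hd, finsum_mem_eq_toFinset_sum] at h
    rw [h]; norm_num
  set S : ℤ := ∑ χ ∈ B.toFinset, N χ ^ 2 with hS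
  have hSD : (S : ℂ) = 4 * D := by
    rw [hS, Int.cast_sum, ← hnorm, Finset.sum_mul]
    exact Finset.sum_congr rfl fun χ _ => (ha χ).symm
  have hS0 : S ≠ 0 := fun h => by
    rw [h, Int.cast_zero] at hSD
    exact mul_ne_zero (by norm_num) hD0 hSD.symm
  have hN0 : ∀ χ ∈ B, N χ ≠ 0 := fun χ hχ h => by
    have h1 := hN χ
    rw [h, Int.cast_zero] at h1
    exact mul_ne_zero (hcol.ne_zero hM hx' hind hdef hχ) hcol.phi_one h1.symm
  have hz : ∀ χ ∈ B, ∃ z : ℤ, 1 ≤ z ∧ z * S = 4 * N χ ^ 2 := by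
    intro χ hχ
    have hq : ((((4 * N χ ^ 2 : ℤ) : ℚ) / (S : ℚ) : ℚ) : ℂ) = col χ * conj (col χ) := by
      have h := ha χ
      push_cast at h ⊢
      rw [div_eq_iff (Int.cast_ne_zero.2 hS0), hSD]
      linear_combination -4 * h
    have hi : IsIntegral ℤ (col χ * conj (col χ)) :=
      (hcol.integral χ).mul ((hcol.integral χ).map (starRingEnd ℂ).toIntAlgHom)
    obtain ⟨z, hz⟩ := CfsgLib.Char.exists_int_of_isIntegral_ratCast (hq ▸ hi)
    rw [eq_div_iff (Int.cast_ne_zero.2 hS0)] at hz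
    have hz' : z * S = 4 * N χ ^ 2 := by exact_mod_cast hz
    refine ⟨z, ?_, hz'⟩
    have hSpos : 0 < S := lt_of_le_of_ne (Finset.sum_nonneg fun _ _ => sq_nonneg _) hS0.symm
    have hNpos : 0 < N χ ^ 2 := by have := hN0 χ hχ; positivity
    nlinarith
  choose! z hz1 hz2 using hz
  have hcard : B.toFinset.card = 4 := by rw [Set.toFinset_card, ← Nat.card_eq_fintype_card, hk]
  have hsum : ∑ χ ∈ B.toFinset, z χ = 4 := by
    have h : (∑ χ ∈ B.toFinset, z χ) * S = 4 * S := by
      rw [Finset.sum_mul, Finset.sum_congr rfl fun χ hχ => hz2 χ (Set.mem_toFinset.1 hχ),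
        ← Finset.mul_sum]
    exact mul_right_cancel₀ hS0 h
  have hone : ∀ χ ∈ B.toFinset, z χ = 1 := by
    intro χ hχ
    have h := (Finset.sum_eq_sum_iff_of_le (f := fun _ => (1 : ℤ)) (g := z)
      fun χ hχ => hz1 χ (Set.mem_toFinset.1 hχ)).1 (by simp [hsum, hcard]) χ hχ
    exact h.symm
  obtain ⟨χ₀, hχ₀⟩ := CfsgLib.BlockReg.block_nonempty hM hB
  refine ⟨fun χ => if N χ = N χ₀ then 1 else -1, fun χ => ?_, fun g hg => ?_⟩
  · by_cases h : N χ = N χ₀ <;> simp [h]
  have hrel : ∀ χ ∈ B.toFinset,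
      (N χ : ℂ) = ((if N χ = N χ₀ then 1 else -1 : ℤ) : ℂ) * (N χ₀ : ℂ) := by
    intro χ hχ
    have h1 := hz2 χ (Set.mem_toFinset.1 hχ)
    have h2 := hz2 χ₀ hχ₀
    rw [hone χ hχ] at h1
    rw [hone χ₀ (Set.mem_toFinset.2 hχ₀)] at h2
    rcases sq_eq_sq_iff_eq_or_eq_neg.1 (show N χ ^ 2 = N χ₀ ^ 2 by omega) with h | h
    · simp [h]
    · by_cases h' : N χ = N χ₀
      · simp [h']
      · rw [if_neg h', h]; simp
  have h0 := hcol.orth_regular hM hB hind.1 hx' hx1 hg
  rw [finsum_mem_eq_toFinset_sum] at h0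
  have h1 : (N χ₀ : ℂ) * ∑ χ ∈ B.toFinset,
      ((if N χ = N χ₀ then 1 else -1 : ℤ) : ℂ) * (χ : G → ℂ) g = 0 := by
    rw [Finset.mul_sum, ← mul_zero (conj (φ 1)), ← h0, Finset.mul_sum]
    refine Finset.sum_congr rfl fun χ hχ => ?_
    have h2 : conj ((N χ : ℤ) : ℂ) = conj (col χ * φ 1) := by rw [hN]
    rw [map_intCast, map_mul] at h2
    calc _ = (N χ : ℂ) * (χ : G → ℂ) g := by rw [hrel χ hχ]; ring
      _ = _ := by rw [h2]; ring
  exact (mul_eq_zero.1 h1).resolve_left (Int.cast_ne_zero.2 (hN0 χ₀ hχ₀))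

/-- The regular data of a block with a four-group as defect group. -/
theorem exists_regularData_klein (hM : IsPModular 2 M) {B : Set (IrrCharacter G)}
    (hB : IsPBlock M B) {P : Subgroup G} [IsMulCommutative P] {e : MonoidAlgebra (ResField M) G}
    (hP : PairOf 2 (ebar hB) P e) (hno : NoExt 2 P e) (hfree : Free P (pairStab P e))
    (hV : IsKleinFour P) (hk : Nat.card B = 4) (hl : blockRank 2 B = Nat.card (autP P e)) :
    ∃ (X Y : Finset (IrrCharacter G)) (δ : IrrCharacter G → ℤ) (δ₀ : ℤ),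
      RegularData 2 B X Y δ δ₀ ∧ X.card = Nat.card (autP P e) ∧
      Nat.card P = 1 + Nat.card (autP P e) * Y.card := by
  classical
  haveI := Fintype.ofFinite G
  haveI := Fintype.ofFinite P
  haveI := Fintype.ofFinite B
  haveI := Fintype.ofFinite (autP P e)
  have hP4 : Nat.card P = 4 := hV.card_four
  have hab : ∀ x ∈ P, ∀ y ∈ P, x * y = y * x := fun x hx y hy =>
    congrArg Subtype.val (mul_comm (⟨x, hx⟩ : P) ⟨y, hy⟩)
  have hPB : IsDefectGroup 2 M B P := (isDefectGroup_iff_maxR hM hB).2 (maxR_of_noExt hP hno)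
  have hd : blockDefect 2 B = 2 := by
    have h := card_defectGroup hM hB hPB
    rw [hP4] at h
    exact Nat.pow_right_injective le_rfl (h.symm.trans (by norm_num : (4 : ℕ) = 2 ^ 2))
  obtain ⟨m, hkm, hm⟩ := CfsgLib.BlockRank.exists_card_of_free hM hB hP hno hab hfree
  rw [← card_autP, hP4] at hm
  rw [hk, hl] at hkm
  have hcase : Nat.card (autP P e) = 3 ∨ Nat.card (autP P e) = 1 := by
    have h3 : Nat.card (autP P e) * m = 3 := by omega
    have hle : Nat.card (autP P e) ≤ 3 := Nat.le_of_dvd (by norm_num) ⟨m, h3.symm⟩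
    generalize hn : Nat.card (autP P e) = n at *
    interval_cases n <;> omega
  obtain ⟨ι, hι, ⟨S⟩⟩ := exists_localSections hM hB hP hno hfree
  obtain ⟨i⟩ : Nonempty ι := by
    rw [← not_isEmpty_iff]
    intro hemp
    have h := S.reps.card_eq
    rw [hP4, Fintype.card_eq_zero, mul_zero] at h
    omega
  have hx : orderOf (S.x i) = 2 := by
    obtain ⟨g, hg, -⟩ := S.link i
    refine orderOf_eq_prime ?_ (S.x_ne_one i)
    have h2 : (S.r i : G) * S.r i = 1 := congrArg Subtype.val (IsKleinFour.mul_self (S.r i))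
    rw [hg] at h2
    calc S.x i ^ 2 = g⁻¹ * (g * S.x i * g⁻¹ * (g * S.x i * g⁻¹)) * g := by rw [sq]; group
      _ = 1 := by rw [h2]; group
  obtain ⟨col, φ, hcol⟩ := exists_column hM (S.pelem _ (S.mem_X i)) (S.induced i) (S.major i)
    (S.rankOne i)
  obtain ⟨δ, hδ, hrel⟩ := exists_signs hM hB hx (S.induced i) (S.major i) hcol hk hd
  obtain ⟨χ₀, hχ₀⟩ := CfsgLib.BlockReg.block_nonempty hM hB
  have hcard : B.toFinset.card = 4 := by rw [Set.toFinset_card, ← Nat.card_eq_fintype_card, hk]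
  have hmem₀ : χ₀ ∈ B.toFinset := Set.mem_toFinset.2 hχ₀
  rcases hcase with h3 | h1
  · refine ⟨B.toFinset.erase χ₀, {χ₀}, δ, δ χ₀,
      { mem := fun χ => ?_
        disj := Finset.disjoint_singleton_right.2 (Finset.notMem_erase _ _)
        sign := fun χ _ => hδ χ
        sign₀ := hδ χ₀
        rank := by rw [hl, h3, Finset.card_erase_of_mem hmem₀, hcard]
        relation := fun ψ hψ g hg => ?_ }, ?_, ?_⟩
    · rw [Finset.mem_erase, Set.mem_toFinset, Finset.mem_singleton]
      by_cases h : χ = χ₀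
      · simp [h, hχ₀]
      · simp [h]
    · rw [Finset.mem_singleton.1 hψ,
        Finset.add_sum_erase _ (fun χ => (δ χ : ℂ) * (χ : G → ℂ) g) hmem₀]
      exact hrel g hg
    · rw [h3, Finset.card_erase_of_mem hmem₀, hcard]
    · rw [h3, hP4, Finset.card_singleton]
  · rw [h1] at hl
    obtain ⟨θ, -, d, -, hdθ, hdsum⟩ := CfsgLib.BlockRank.exists_rankOne_data hM hB hl
    rw [hd] at hdsum
    have hd1 : ∀ χ ∈ B.toFinset, d χ = 1 := by
      have hpos : ∀ χ ∈ B.toFinset, 1 ≤ d χ ^ 2 := fun χ hχ => by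
        have h0 : d χ ≠ 0 := fun h => CfsgLib.BlockReg.deg_ne_zero χ (by
          rw [hdθ χ (Set.mem_toFinset.1 hχ) 1 isPRegular_one, h, Nat.cast_zero, zero_mul])
        exact Nat.one_le_pow _ _ (Nat.pos_of_ne_zero h0)
      intro χ hχ
      have h := (Finset.sum_eq_sum_iff_of_le (f := fun _ => 1) hpos).1 (by simp [hdsum, hcard]) χ hχ
      exact (pow_eq_one_iff_left two_ne_zero).1 h.symm
    refine ⟨{χ₀}, B.toFinset.erase χ₀, fun _ => -1, 1,
      { mem := fun χ => ?_
        disj := Finset.disjoint_singleton_left.2 (Finset.notMem_erase _ _)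
        sign := fun χ _ => Or.inr rfl
        sign₀ := Or.inl rfl
        rank := by rw [hl, Finset.card_singleton]
        relation := fun ψ hψ g hg => ?_ }, ?_, ?_⟩
    · rw [Finset.mem_erase, Set.mem_toFinset, Finset.mem_singleton]
      by_cases h : χ = χ₀
      · simp [h, hχ₀]
      · simp [h]
    · have hψ' := Finset.mem_of_mem_erase hψ
      rw [Finset.sum_singleton, hdθ ψ (Set.mem_toFinset.1 hψ') g hg, hdθ χ₀ hχ₀ g hg,
        hd1 ψ hψ', hd1 χ₀ hmem₀]
      push_cast
      ring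
    · rw [h1, Finset.card_singleton]
    · rw [h1, hP4, Finset.card_erase_of_mem hmem₀, hcard]

end CfsgLib.PerfIso
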