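import Cfsg.Agent.Lib.PerfIso.Integral
import Cfsg.Agent.Lib.BlockTwist.StarVal
import Cfsg.Agent.Lib.BlockStar.Section

/-!
The integrality of the weighted products of columns from the star construction.
-/

set_option autoImplicit false
set_option maxHeartbeats 1600000
set_option synthInstance.maxHeartbeats 400000

open Cfsg CfsgLib.Blocks CfsgLib.Blocks.Pairs CfsgLib.Blk83.FreeOrbit CfsgLib.BlockStar
open CfsgLib.BlockRank.Watanabe (SecIdx)
open scoped ComplexConjugate IsMulCommutative Classical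

namespace CfsgLib.PerfIso

universe u

variable {G : Type u} [Group G] [Finite G] {p : ℕ} [Fact p.Prime] {M : Ideal AlgInt} [M.IsMaximal]
  [CharP (ResField M) p] {P : Subgroup G} [IsMulCommutative P]
  {e : MonoidAlgebra (ResField M) G} {ι : Type u} [Fintype ι]

/-- The integrality hypothesis of the coherence theorem holds. -/
theorem starInt_of_pair (hM : IsPModular p M) {B : Set (IrrCharacter G)} (hB : IsPBlock M B)
    (hP : PairOf p (ebar hB) P e) (hno : NoExt p P e) [Fintype (autP P e)]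
    (S : LocalSections p M B P e ι) {col : ι → IrrCharacter G → ℂ}
    {φ : ∀ i, Subgroup.centralizer ({S.x i} : Set G) → ℂ}
    (hcol : ∀ i, IsColumn p M B (S.x i) (S.b i) (col i) (φ i)) : StarInt S col := by
  haveI := Fintype.ofFinite G
  have hab : ∀ x ∈ P, ∀ y ∈ P, x * y = y * x := fun x hx y hy =>
    congrArg Subtype.val (mul_comm (⟨x, hx⟩ : P) ⟨y, hy⟩)
  have hcard : Nat.card P = p ^ blockDefect p B :=
    card_defectGroup hM hB ((isDefectGroup_iff_maxR hM hB).2 (maxR_of_noExt hP hno))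
  intro q χ hχ ψ hψ
  let η₀ : P → ℂ := fun u =>
    orbSum (autP P e) (rep (autP P e) q) u - (Nat.card (autP P e) : ℂ)
  let η : G → ℂ := fun g => if h : g ∈ P then η₀ ⟨g, h⟩ else 0
  have hη1 : η 1 = 0 := by
    show (if h : (1 : G) ∈ P then η₀ ⟨1, h⟩ else 0) = 0
    rw [dif_pos P.one_mem]
    show orbSum _ _ (1 : P) - _ = 0
    rw [orbSum_apply_one, sub_self]
  have hst : Stable p P e η := by
    intro u hu g f h1 h2
    rw [conjSub_zpowers_eq] at h2
    obtain ⟨y, hy, hyu⟩ := CfsgLib.BlockRank.exists_stab_of_fusion hP hno hab h1 h2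
    have hgu : g * u * g⁻¹ ∈ P := h2.le (Subgroup.mem_zpowers _)
    obtain ⟨a, ha⟩ : ∃ a : autP P e, ∀ v : P, ((a : MulAut P) v : G) = y * v * y⁻¹ :=
      ⟨⟨P.normalizerMonoidHom ⟨y, hy.1⟩, (mem_autP_iff _).2 ⟨y, hy, fun _ => rfl⟩⟩, fun _ => rfl⟩
    show (if h : g * u * g⁻¹ ∈ P then η₀ ⟨_, h⟩ else 0) = if h : u ∈ P then η₀ ⟨u, h⟩ else 0
    rw [dif_pos hgu, dif_pos hu]
    have hval : (⟨g * u * g⁻¹, hgu⟩ : P) = (a : MulAut P) ⟨u, hu⟩ := Subtype.ext (by
      rw [ha]; exact hyu.symm)
    rw [hval]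
    show orbSum _ _ _ - _ = orbSum _ _ _ - _
    rw [OrbitReps.orbSum_inv_aux]
  have hgen : IsGeneralizedCharacter P fun u : P => η u := by
    have h0 : (fun u : P => η u) = fun u => η₀ u := funext fun u => by
      show (if h : (u : G) ∈ P then η₀ ⟨u, h⟩ else 0) = _
      rw [dif_pos u.2]
    rw [h0]
    have h1 : IsGeneralizedCharacter P fun u : P => orbSum (autP P e) (rep (autP P e) q) u := by
      have : (fun u : P => orbSum (autP P e) (rep (autP P e) q) u) =
          ∑ a : autP P e, fun u : P => (act (rep (autP P e) q) (a : MulAut P) u : ℂ) :=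
        funext fun u => by simp [orbSum]
      rw [this]
      exact CfsgLib.Char.IsGeneralizedCharacter.sum _ _ fun a _ =>
        CfsgLib.Char.IsIrrCharacter.isGeneralizedCharacter
          (CfsgLib.Char.isIrrCharacter_linear (act (rep (autP P e) q) (a : MulAut P)))
    have h2 : IsGeneralizedCharacter P fun _ : P => (((Nat.card (autP P e) : ℤ)) : ℂ) :=
      CfsgLib.Char.IsGeneralizedCharacter.intCast _
    have h3 := CfsgLib.Char.IsGeneralizedCharacter.sub h1 h2
    convert h3 using 1
    funext u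
    simp [η₀]
  obtain ⟨z, hz⟩ := exists_int_weighted hM hB S hcol (F := star p M P e η (χ : G → ℂ))
    (fun s => if hb : IsPBlock M s.2 then pairVal p P e η s.1 (eIn hb) else 0) (χ := χ) hψ
    (CfsgLib.BlockTwist.isGeneralizedCharacter_blockStar hM hP hno hab hst hgen
      (CfsgLib.Char.IsIrrCharacter.isCharacter χ.2))
    (isClassFunction_star hM hst (CfsgLib.Char.IsIrrCharacter.isClassFunction χ.2))
    (fun g hg => by rw [star_regular hM hB hP hst hχ hg, hη1, zero_mul])
    (fun x hx hx1 s hs => by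
      rw [star_section hM P e η (CfsgLib.Char.IsIrrCharacter.isClassFunction χ.2) x (S.pelem x hx)
        s hs, finsum_mem_eq_finite_toFinset_sum _ (Set.toFinite _)]
      refine Finset.sum_bij_ne_zero (fun b _ _ => b.1) (fun b _ hb => ?_)
        (fun a _ _ b _ _ h => Subtype.ext h) (fun b hb h0 => ?_) fun b _ _ => ?_
      · rw [Set.Finite.mem_toFinset, Set.mem_setOf_eq]
        obtain ⟨B', hB'⟩ :=
          CfsgLib.BlockRank.exists_isInducedBlock_centralizer hM rfl (S.pelem x hx) b.2
        by_contra hcon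
        refine hb (mul_eq_zero_of_right _
          (blockPart_eq_zero_of_not_mem hM (S.pelem x hx) hB' (fun hχ' => hcon ?_) s hs))
        rwa [IsPBlock.eq_of_mem hB hB'.2.1 hχ hχ']
      · rw [Set.Finite.mem_toFinset, Set.mem_setOf_eq] at hb
        refine ⟨⟨b, hb.1⟩, Finset.mem_univ _, ?_, rfl⟩
        simpa [dif_pos hb.1] using h0
      · simp [dif_pos b.2])
  refine ⟨z, ?_⟩
  rw [hcard, ← hz]
  refine congrArg _ (Finset.sum_congr rfl fun i _ => ?_)
  obtain ⟨g, hg, hb, hle⟩ := S.link i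
  rw [dif_pos (S.induced i).1]
  have hle' : SLE p (conjSub g (Subgroup.zpowers (S.x i))) (conjA g (eIn (S.induced i).1)) P e := by
    rw [conjSub_zpowers_eq, ← hg]
    exact hle
  rw [pairVal_eq hst hle', ← hg]
  show _ = (if h : (S.r i : G) ∈ P then η₀ ⟨_, h⟩ else 0) * _
  rw [dif_pos (S.r i).2]

end CfsgLib.PerfIso
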