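import Cfsg.Agent.Lib.PerfIso.Kernel
import Cfsg.Agent.Lib.PerfIso.Star

/-!
Blocks with abelian defect group and free inertial action are perfectly isometric to a Frobenius
model, given the regular relation between their characters.
-/

set_option autoImplicit false
set_option maxHeartbeats 800000
set_option synthInstance.maxHeartbeats 400000

open Cfsg CfsgLib.Blocks CfsgLib.Blocks.Pairs
open scoped IsMulCommutative

namespace CfsgLib.PerfIso

universe u v

variable {G : Type u} [Group G] [Finite G] {p : ℕ} [Fact p.Prime] {M : Ideal AlgInt} [M.IsMaximal]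
  [CharP (ResField M) p]

/-- The perfect isometry with a Frobenius model. -/
theorem exists_perfectIsometry_model (hM : IsPModular p M) {B : Set (IrrCharacter G)}
    (hB : IsPBlock M B) {P : Subgroup G} [IsMulCommutative P] {e : MonoidAlgebra (ResField M) G}
    (hP : PairOf p (ebar hB) P e) (hno : NoExt p P e) (hfree : Free P (pairStab P e))
    (hP1 : P ≠ ⊥) [Fintype (autP P e)] {X Y : Finset (IrrCharacter G)}
    {δ : IrrCharacter G → ℤ} {δ₀ : ℤ} (R : RegularData p B X Y δ δ₀)
    (hX : X.card = Nat.card (autP P e)) (hY : Nat.card P = 1 + Nat.card (autP P e) * Y.card)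
    {F : Type v} [Group F] [Finite F] (Mod : FrobModel F p (autP P e)) :
    ∃ (I : IrrCharacter F → IrrCharacter G) (ε : IrrCharacter F → ℤ),
      IsPerfectIsometry p M (Set.univ : Set (IrrCharacter F)) B I ε ∧
      ∀ q q', ε (Mod.theta q) = ε (Mod.theta q') := by
  classical
  haveI := Fintype.ofFinite G
  haveI := Fintype.ofFinite P
  obtain ⟨ι, hι, ⟨S⟩⟩ := exists_localSections hM hB hP hno hfree
  have hPB : IsDefectGroup p M B P :=
    (isDefectGroup_iff_maxR hM hB).2 (maxR_of_noExt hP hno)
  choose col φ hcol using fun i =>
    exists_column hM (S.pelem _ (S.mem_X i)) (S.induced i) (S.major i) (S.rankOne i)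
  have hcard : Y.card = Fintype.card ι := by
    have h := S.reps.card_eq
    rw [hY] at h
    have h' : Nat.card (autP P e) * Y.card = Nat.card (autP P e) * Fintype.card ι := by omega
    exact Nat.eq_of_mul_eq_mul_left Nat.card_pos h'
  exact exists_perfectIsometry hM hB hPB hP1 S hcol R hX hcard
    (starInt_of_pair hM hB hP hno S hcol) Mod

end CfsgLib.PerfIso
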