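import Mathlib.GroupTheory.SemidirectProduct
import Cfsg.Agent.Lib.PerfIso.FrobData

/-!
The semidirect product as a model.
-/

set_option autoImplicit false

open CfsgLib.Blk83.FreeOrbit

namespace CfsgLib.PerfIso

universe u

variable {A : Type u} [CommGroup A] [Finite A]

/-- Every free commutative group of automorphisms has a model. -/
theorem exists_model_group (T : Subgroup (MulAut A)) [Fintype T]
    (hfree : ∀ a : T, a ≠ 1 → ∀ y : A, (a : MulAut A) y = y → y = 1)
    (hA1 : Nontrivial A) :
    ∃ (F : Type u) (_ : Group F) (_ : Finite F) (Q : Subgroup F) (_ : Q.Normal) (iso : Q ≃* A),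
      Subgroup.centralizer (Q : Set F) = Q ∧ (actHom iso).range = T := by
  let φ : T →* MulAut A := T.subtype
  haveI : Finite (SemidirectProduct A T φ) := Finite.of_equiv _ SemidirectProduct.equivProd.symm
  let Q : Subgroup (SemidirectProduct A T φ) := (SemidirectProduct.inl : A →* _).range
  have hQ : Q = (SemidirectProduct.rightHom : SemidirectProduct A T φ →* T).ker :=
    SemidirectProduct.range_inl_eq_ker_rightHom
  haveI : Q.Normal := hQ ▸ inferInstance
  let iso : Q ≃* A :=
    (MonoidHom.ofInjective (SemidirectProduct.inl_injective (φ := φ))).symm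
  have hmem : ∀ x : SemidirectProduct A T φ, x ∈ Q ↔ x.right = 1 := fun x => by
    rw [hQ, MonoidHom.mem_ker]
    rfl
  have hiso : ∀ y : Q, SemidirectProduct.inl (φ := φ) (iso y) = (y : SemidirectProduct A T φ) :=
    fun y => by
      show SemidirectProduct.inl ((MonoidHom.ofInjective _).symm y) = _
      exact congrArg Subtype.val
        ((MonoidHom.ofInjective (SemidirectProduct.inl_injective (φ := φ))).apply_symm_apply y)
  have hact : ∀ x : SemidirectProduct A T φ, actHom iso x = (x.right : MulAut A) := by
    intro x
    refine MulEquiv.ext fun a => ?_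
    obtain ⟨y, rfl⟩ := iso.surjective a
    rw [actHom_apply]
    refine SemidirectProduct.inl_injective (φ := φ) ?_
    rw [hiso]
    show x * (y : SemidirectProduct A T φ) * x⁻¹ = _
    rw [← hiso y]
    ext
    · simp only [SemidirectProduct.mul_left, SemidirectProduct.mul_right, SemidirectProduct.left_inl,
        SemidirectProduct.right_inl, SemidirectProduct.inv_left, mul_one, map_inv]
      rw [MulAut.apply_inv_self, mul_comm x.left, mul_inv_cancel_right]
      rfl
    · simp
  refine ⟨SemidirectProduct A T φ, inferInstance, inferInstance, Q, inferInstance, iso, ?_, ?_⟩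
  · refine le_antisymm (fun x hx => (hmem x).2 ?_) fun x hx =>
      Subgroup.mem_centralizer_iff.2 fun y hy => ?_
    · by_contra hne
      obtain ⟨a, ha⟩ := exists_ne (1 : A)
      refine ha (hfree x.right hne a ?_)
      have h := congrArg SemidirectProduct.left
        (Subgroup.mem_centralizer_iff.1 hx (SemidirectProduct.inl a) ⟨a, rfl⟩)
      simp only [SemidirectProduct.mul_left, SemidirectProduct.right_inl,
        SemidirectProduct.left_inl, map_one, MulAut.one_apply] at h
      rw [mul_comm] at h
      exact (mul_left_cancel h).symm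
    · have h1 := hiso ⟨x, hx⟩
      have h2 := hiso ⟨y, hy⟩
      simp only at h1 h2
      have h := congrArg (SemidirectProduct.inl (φ := φ)) (mul_comm (iso ⟨y, hy⟩) (iso ⟨x, hx⟩))
      rw [map_mul, map_mul] at h
      rw [← h1, ← h2]
      exact h
  · refine le_antisymm ?_ fun a ha => ⟨SemidirectProduct.inr ⟨a, ha⟩, by
      rw [hact, SemidirectProduct.right_inr]⟩
    rintro _ ⟨x, rfl⟩
    rw [hact]
    exact x.right.2

end CfsgLib.PerfIso
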