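import Cfsg.Agent.Lib.PerfIso.Main
import Cfsg.Agent.Lib.PerfIso.Compose
import Cfsg.Agent.Lib.PerfIso.ModelGroup
import Cfsg.Agent.Lib.BlockChains.Count

/-!
A block and its correspondent in a subgroup containing the normalizer of the defect group have the
same inertial action and the same model.
-/

set_option autoImplicit false
set_option maxHeartbeats 1600000
set_option synthInstance.maxHeartbeats 400000

open Cfsg CfsgLib.Blocks CfsgLib.Blocks.Pairs
open CfsgLib.Blk83.FreeOrbit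
open scoped IsMulCommutative

namespace CfsgLib.PerfIso

universe u v

variable {G : Type u} [Group G] [Finite G] {p : ℕ} [Fact p.Prime] {M : Ideal AlgInt} [M.IsMaximal]
  [CharP (ResField M) p]

/-- The isometry with a given group of Frobenius shape. -/
theorem exists_perfectIsometry_frob (hM : IsPModular p M) {B : Set (IrrCharacter G)}
    (hB : IsPBlock M B) {P : Subgroup G} [IsMulCommutative P] {e : MonoidAlgebra (ResField M) G}
    (hP : PairOf p (ebar hB) P e) (hno : NoExt p P e) (hfree : Free P (pairStab P e))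
    (hP1 : P ≠ ⊥) (hcomm : ∀ a b : autP P e, a * b = b * a)
    {X Y : Finset (IrrCharacter G)} {δ : IrrCharacter G → ℤ} {δ₀ : ℤ}
    (R : RegularData p B X Y δ δ₀) (hX : X.card = Nat.card (autP P e))
    (hY : Nat.card P = 1 + Nat.card (autP P e) * Y.card)
    {F : Type v} [Group F] [Finite F] {Q : Subgroup F} [Q.Normal] (iso : Q ≃* P)
    (hC : Subgroup.centralizer (Q : Set F) = Q) (hrange : (actHom iso).range = autP P e) :
    ∃ (I : IrrCharacter F → IrrCharacter G) (ε : IrrCharacter F → ℤ),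
      IsPerfectIsometry p M (Set.univ : Set (IrrCharacter F)) B I ε ∧
      ∀ η η' : IrrCharacter F, (∃ x ∈ Q, (η : F → ℂ) x ≠ (η : F → ℂ) 1) →
        (∃ x ∈ Q, (η' : F → ℂ) x ≠ (η' : F → ℂ) 1) → ε η = ε η' := by
  classical
  haveI := Fintype.ofFinite G
  haveI := Fintype.ofFinite P
  haveI := Fintype.ofFinite (autP P e)
  obtain ⟨n, hn⟩ := (IsPGroup.iff_card (p := p)).1 hP.pair.pgroup
  have hp : p.Prime := Fact.out
  have hn0 : n ≠ 0 := fun h => hP1 (Subgroup.card_eq_one.1 (by rw [hn, h, pow_zero]))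
  have hpT : ¬ p ∣ Nat.card (autP P e) := by
    intro h
    have h2 : p ∣ Nat.card P := hn ▸ dvd_pow_self p hn0
    rw [hY] at h2
    exact hp.not_dvd_one ((Nat.dvd_add_left (h.mul_right _)).1 h2)
  obtain ⟨Mod⟩ := exists_frobModel (p := p) iso hC hrange (autP_free hfree) hcomm ⟨n, hn⟩ hpT
  obtain ⟨I, ε, hI, hε⟩ := exists_perfectIsometry_model hM hB hP hno hfree hP1 R hX hY Mod
  have hQcard : Nat.card Mod.Q = Nat.card Q :=
    (Nat.card_congr Mod.iso.toEquiv).trans (Nat.card_congr iso.toEquiv).symm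
  have hQ : Mod.Q = Q := by
    refine (Subgroup.eq_of_le_of_card_ge (fun y hy => ?_) hQcard.le).symm
    by_contra hyQ
    have hreg := Mod.regular_off y hyQ
    obtain ⟨j, -, hj⟩ := (Nat.dvd_prime_pow hp).1 (show orderOf y ∣ p ^ n by
      rw [← hn, ← Nat.card_congr iso.toEquiv, ← Subgroup.orderOf_mk y hy]
      exact orderOf_dvd_natCard _)
    refine hyQ ?_
    rcases Nat.eq_zero_or_pos j with h0 | h0
    · have h1 : y = 1 := orderOf_eq_one_iff.1 (by rw [hj, h0, pow_zero])
      exact h1 ▸ Mod.Q.one_mem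
    · exact absurd (hj ▸ dvd_pow_self p h0.ne') hreg
  refine ⟨I, ε, hI, fun η η' hη hη' => ?_⟩
  have key : ∀ η : IrrCharacter F, (∃ x ∈ Q, (η : F → ℂ) x ≠ (η : F → ℂ) 1) →
      ∃ q, Mod.theta q = η := by
    intro η ⟨x, hx, hne⟩
    obtain ⟨s, rfl⟩ := Mod.exhaust.2 η
    rcases s with j | q
    · exact absurd (by rw [Sum.elim_inl, Mod.lam_Q j x (hQ ▸ hx), Mod.lam_Q j 1 Mod.Q.one_mem]) hne
    · exact ⟨q, rfl⟩
  obtain ⟨q, rfl⟩ := key η hη
  obtain ⟨q', rfl⟩ := key η' hη'
  exact hε q q'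

section Local

variable (H : Subgroup G) {P : Subgroup G}

omit [Finite G] in
theorem mem_centralizer_subgroupOf {P : Subgroup G} (hPH : P ≤ H) (k : H) :
    k ∈ Subgroup.centralizer ((P.subgroupOf H : Subgroup H) : Set H) ↔
      (k : G) ∈ Subgroup.centralizer (P : Set G) := by
  rw [Subgroup.mem_centralizer_iff, Subgroup.mem_centralizer_iff]
  exact ⟨fun h y hy => congrArg Subtype.val (h ⟨y, hPH hy⟩ hy),
    fun h y hy => Subtype.ext (h (y : G) hy)⟩

omit [Finite G] in
theorem mem_normalizer_subgroupOf {P : Subgroup G} (hPH : P ≤ H) (k : H) :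
    k ∈ Subgroup.normalizer ((P.subgroupOf H : Subgroup H) : Set H) ↔
      (k : G) ∈ Subgroup.normalizer (P : Set G) := by
  rw [Subgroup.mem_normalizer_iff, Subgroup.mem_normalizer_iff]
  constructor
  · intro h y
    constructor
    · intro hy
      exact (h ⟨y, hPH hy⟩).1 hy
    · intro hy
      have h1 : y ∈ H := by
        have := H.mul_mem (H.mul_mem (H.inv_mem k.2) (hPH hy)) k.2
        simpa [mul_assoc] using this
      exact (h ⟨y, h1⟩).2 hy
  · exact fun h y => h (y : G)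

/-- The centralizer inside a subgroup containing it. -/
def centEquiv (hPH : P ≤ H) (hCH : Subgroup.centralizer (P : Set G) ≤ H) :
    Subgroup.centralizer ((P.subgroupOf H : Subgroup H) : Set H) ≃*
      Subgroup.centralizer (P : Set G) where
  toFun k := ⟨((k : H) : G), (mem_centralizer_subgroupOf H hPH (k : H)).1 k.2⟩
  invFun y := ⟨⟨y, hCH y.2⟩, (mem_centralizer_subgroupOf H hPH ⟨y, hCH y.2⟩).2 y.2⟩
  left_inv _ := rfl
  right_inv _ := rfl
  map_mul' _ _ := rfl

omit [Fact p.Prime] [M.IsMaximal] [CharP (ResField M) p] in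
/-- The stabilizers of corresponding blocks of the centralizer. -/
theorem stabilizesBlock_centEquiv_iff (hPH : P ≤ H) (hCH : Subgroup.centralizer (P : Set G) ≤ H)
    (c : Set (IrrCharacter (Subgroup.centralizer (P : Set G)))) (h : H) :
    StabilizesBlock (Subgroup.centralizer ((P.subgroupOf H : Subgroup H) : Set H))
      (pullSet (centEquiv H hPH hCH) c) h ↔
    StabilizesBlock (Subgroup.centralizer (P : Set G)) c (h : G) := by
  refine and_congr ?_ ⟨fun hs χ hχ => ?_, ?_⟩
  · rw [Subgroup.mem_normalizer_iff, Subgroup.mem_normalizer_iff]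
    constructor
    · intro hn y
      constructor
      · intro hy
        exact (mem_centralizer_subgroupOf H hPH _).1
          ((hn ⟨y, hCH hy⟩).1 ((mem_centralizer_subgroupOf H hPH ⟨y, hCH hy⟩).2 hy))
      · intro hy
        have h1 : y ∈ H := by
          have := H.mul_mem (H.mul_mem (H.inv_mem h.2) (hCH hy)) h.2
          simpa [mul_assoc] using this
        exact (mem_centralizer_subgroupOf H hPH ⟨y, h1⟩).1
          ((hn ⟨y, h1⟩).2 ((mem_centralizer_subgroupOf H hPH (h * ⟨y, h1⟩ * h⁻¹)).2 hy))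
    · intro hn k
      rw [mem_centralizer_subgroupOf H hPH, mem_centralizer_subgroupOf H hPH]
      exact hn (k : G)
  · obtain ⟨_, ⟨χ', hχ', rfl⟩, hcj⟩ := hs _ ⟨χ, hχ, rfl⟩
    refine ⟨χ', hχ', fun k k' hk => ?_⟩
    have h' := hcj ((centEquiv H hPH hCH).symm k) ((centEquiv H hPH hCH).symm k') (Subtype.ext hk)
    simpa only [pull_apply, MulEquiv.apply_symm_apply] using h'
  · rintro hs _ ⟨χ, hχ, rfl⟩
    obtain ⟨χ', hχ', hcj⟩ := hs χ hχ
    refine ⟨_, ⟨χ', hχ', rfl⟩, fun k k' hk => ?_⟩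
    rw [pull_apply, pull_apply]
    exact hcj _ _ (congrArg Subtype.val hk)

/-- A block of the centralizer below a block of a subgroup with the same defect group and below the
block of the group. -/
theorem exists_local_root (hM : IsPModular p M) {B : Set (IrrCharacter G)} (hPH : P ≤ H)
    (hCH : Subgroup.centralizer (P : Set G) ≤ H) {c : Set (IrrCharacter H)}
    (hcD : IsDefectGroup p M c (P.subgroupOf H)) (hc : IsInducedBlock M H c B) :
    ∃ c₀ : Set (IrrCharacter (Subgroup.centralizer (P : Set G))),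
      IsInducedBlock M (Subgroup.centralizer (P : Set G)) c₀ B ∧
      IsInducedBlock M (Subgroup.centralizer ((P.subgroupOf H : Subgroup H) : Set H))
        (pullSet (centEquiv H hPH hCH) c₀) c := by
  classical
  have hmax := (isDefectGroup_iff_maxR hM hc.1).1 hcD
  obtain ⟨e', he'⟩ := exists_pairOf (isBlockIdem_ebar hc.1) hmax.pgroup hmax.ne_zero
  obtain ⟨c', hc', rfl⟩ := exists_eIn_eq he'.pair.block
  have hind := (isInducedBlock_iff_pairOf hM hmax.pgroup hc.1 hc').2 he'
  set φ := centEquiv H hPH hCH with hφ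
  have heq : pullSet φ (pullSet φ.symm c') = c' := by
    simp only [pullSet, Set.image_image, pull_pull_symm, Set.image_id']
  refine ⟨pullSet φ.symm c', ?_, heq.symm ▸ hind⟩
  exact CfsgLib.BlockChains.isInducedBlock_stage H φ (fun k => rfl)
    (isPBlock_pullSet φ.symm hc') (heq.symm ▸ hind) hc

/-- The inertial action of corresponding blocks. -/
theorem autP_centEquiv (hPH : P ≤ H) (hCH : Subgroup.centralizer (P : Set G) ≤ H)
    (hNH : Subgroup.normalizer (P : Set G) ≤ H)
    {c : Set (IrrCharacter (Subgroup.centralizer (P : Set G)))} (hc : IsPBlock M c)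
    (hc' : IsPBlock M (pullSet (centEquiv H hPH hCH) c)) :
    autP (P.subgroupOf H) (eIn hc') =
      (autP P (eIn hc)).map (MulAut.congr (Subgroup.subgroupOfEquivOfLe hPH).symm).toMonoidHom := by
  ext a
  rw [Subgroup.mem_map, mem_autP_iff]
  constructor
  · rintro ⟨y, hy, ha⟩
    obtain ⟨hy1, hy2⟩ := (CfsgLib.Blk83.mem_pairStab_iff hc').1 hy
    refine ⟨MulAut.congr (Subgroup.subgroupOfEquivOfLe hPH) a, (mem_autP_iff _).2 ⟨(y : G),
      (CfsgLib.Blk83.mem_pairStab_iff hc).2 ⟨(mem_normalizer_subgroupOf H hPH y).1 hy1,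
        (stabilizesBlock_centEquiv_iff H hPH hCH c y).1 hy2⟩, fun w => ?_⟩, ?_⟩
    · exact congrArg Subtype.val (ha ((Subgroup.subgroupOfEquivOfLe hPH).symm w))
    · refine MulEquiv.ext fun w => ?_
      show (Subgroup.subgroupOfEquivOfLe hPH).symm ((Subgroup.subgroupOfEquivOfLe hPH)
        (a ((Subgroup.subgroupOfEquivOfLe hPH).symm ((Subgroup.subgroupOfEquivOfLe hPH) w)))) = a w
      rw [MulEquiv.symm_apply_apply, MulEquiv.symm_apply_apply]
  · rintro ⟨b, hb, rfl⟩
    obtain ⟨y, hy, hb'⟩ := (mem_autP_iff b).1 hb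
    obtain ⟨hy1, hy2⟩ := (CfsgLib.Blk83.mem_pairStab_iff hc).1 hy
    refine ⟨⟨y, hNH hy1⟩, (CfsgLib.Blk83.mem_pairStab_iff hc').2
      ⟨(mem_normalizer_subgroupOf H hPH ⟨y, hNH hy1⟩).2 hy1,
        (stabilizesBlock_centEquiv_iff H hPH hCH c ⟨y, hNH hy1⟩).2 hy2⟩, fun w => ?_⟩
    exact Subtype.ext (hb' ((Subgroup.subgroupOfEquivOfLe hPH) w))

end Local

/-- Corresponding blocks with the regular data are perfectly isometric. -/
theorem exists_perfectIsometry_local (hM : IsPModular p M) {B : Set (IrrCharacter G)}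
    {P : Subgroup G} [IsMulCommutative P] (H : Subgroup G) [IsMulCommutative (P.subgroupOf H)]
    (hPH : P ≤ H) (hCH : Subgroup.centralizer (P : Set G) ≤ H)
    (hNH : Subgroup.normalizer (P : Set G) ≤ H)
    {c : Set (IrrCharacter H)} {hB : IsPBlock M B} {hc : IsPBlock M c}
    {c₀ : Set (IrrCharacter (Subgroup.centralizer (P : Set G)))} (hc₀ : IsPBlock M c₀)
    (hc₀' : IsPBlock M (pullSet (centEquiv H hPH hCH) c₀))
    (hP : PairOf p (ebar hB) P (eIn hc₀)) (hno : NoExt p P (eIn hc₀))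
    (hP' : PairOf p (ebar hc) (P.subgroupOf H) (eIn hc₀'))
    (hno' : NoExt p (P.subgroupOf H) (eIn hc₀'))
    (hfree : Free P (pairStab P (eIn hc₀)))
    (hfree' : Free (P.subgroupOf H) (pairStab (P.subgroupOf H) (eIn hc₀')))
    (hP1 : P ≠ ⊥) (hcomm : ∀ a b : autP P (eIn hc₀), a * b = b * a)
    {X Y : Finset (IrrCharacter G)} {δ : IrrCharacter G → ℤ} {δ₀ : ℤ}
    (R : RegularData p B X Y δ δ₀) (hX : X.card = Nat.card (autP P (eIn hc₀)))
    (hY : Nat.card P = 1 + Nat.card (autP P (eIn hc₀)) * Y.card)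
    {X' Y' : Finset (IrrCharacter H)} {δ' : IrrCharacter H → ℤ} {δ₀' : ℤ}
    (R' : RegularData p c X' Y' δ' δ₀')
    (hX' : X'.card = Nat.card (autP (P.subgroupOf H) (eIn hc₀')))
    (hY' : Nat.card (P.subgroupOf H) =
      1 + Nat.card (autP (P.subgroupOf H) (eIn hc₀')) * Y'.card) :
    ∃ (I : IrrCharacter H → IrrCharacter G) (ε : IrrCharacter H → ℤ),
      IsPerfectIsometry p M c B I ε := by
  classical
  haveI := Fintype.ofFinite G
  haveI := Fintype.ofFinite P
  haveI := Fintype.ofFinite (autP P (eIn hc₀))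
  have hA1 : Nontrivial P := (Subgroup.nontrivial_iff_ne_bot P).2 hP1
  obtain ⟨F, hFg, hFf, Q, hQn, iso, hC, hrange⟩ :=
    exists_model_group (autP P (eIn hc₀)) (autP_free hfree) hA1
  obtain ⟨I₁, ε₁, h₁, -⟩ := exists_perfectIsometry_frob hM hB hP hno hfree hP1 hcomm R hX hY iso hC
    hrange
  set ψ := (Subgroup.subgroupOfEquivOfLe hPH).symm with hψ
  have haut := autP_centEquiv H hPH hCH hNH hc₀ hc₀'
  have hrange' : (actHom (iso.trans ψ)).range = autP (P.subgroupOf H) (eIn hc₀') := by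
    have h : actHom (iso.trans ψ) = (MulAut.congr ψ).toMonoidHom.comp (actHom iso) := by
      refine MonoidHom.ext fun x => MulEquiv.ext fun w => ?_
      rfl
    rw [h, MonoidHom.range_comp, hrange, haut]
  have hcomm' : ∀ a b : autP (P.subgroupOf H) (eIn hc₀'), a * b = b * a := by
    intro a b
    obtain ⟨a₁, ha₁, ha⟩ := Subgroup.mem_map.1 (haut ▸ a.2 :
      (a : MulAut (P.subgroupOf H)) ∈ (autP P (eIn hc₀)).map (MulAut.congr ψ).toMonoidHom)
    obtain ⟨b₁, hb₁, hb⟩ := Subgroup.mem_map.1 (haut ▸ b.2 :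
      (b : MulAut (P.subgroupOf H)) ∈ (autP P (eIn hc₀)).map (MulAut.congr ψ).toMonoidHom)
    refine Subtype.ext ?_
    rw [Subgroup.coe_mul, Subgroup.coe_mul, ← ha, ← hb, ← map_mul, ← map_mul]
    exact congrArg _ (congrArg Subtype.val (hcomm ⟨a₁, ha₁⟩ ⟨b₁, hb₁⟩))
  have hP1' : P.subgroupOf H ≠ ⊥ := fun h => hP1 (by
    rw [← Subgroup.map_subgroupOf_eq_of_le hPH, h, Subgroup.map_bot])
  obtain ⟨I₂, ε₂, h₂, -⟩ := exists_perfectIsometry_frob hM hc hP' hno' hfree' hP1' hcomm' R' hX' hY'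
    (iso.trans ψ) hC hrange'
  exact exists_perfectIsometry_comp hM h₁ h₂

end CfsgLib.PerfIso
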